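import Cfsg.Agent.Lib.Helper50.Count

set_option autoImplicit false

namespace Cfsg.Agent.Lib.Helper50.Symp

variable {F V : Type*} [Field F] [AddCommGroup V] [Module F V] (B : LinearMap.BilinForm F V)

/-- `B` is non-degenerate on the subspace `W`. -/
def Nondeg (W : Submodule F V) : Prop := ∀ w ∈ W, w ≠ 0 → ∃ w' ∈ W, B w w' ≠ 0

/-- the part of `W` orthogonal to `e` and `f`. -/
def perp2 (W : Submodule F V) (e f : V) : Submodule F V :=
  W ⊓ LinearMap.ker (B e) ⊓ LinearMap.ker (B f)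

theorem mem_perp2 (W : Submodule F V) (e f w : V) :
    w ∈ perp2 B W e f ↔ w ∈ W ∧ B e w = 0 ∧ B f w = 0 := by
  simp [perp2, and_assoc]

/-- `d` mutually orthogonal hyperbolic pairs inside `W`. -/
def IsFr (d : ℕ) (W : Submodule F V) (x : (Fin d → V) × (Fin d → V)) : Prop :=
  (∀ i, x.1 i ∈ W) ∧ (∀ i, x.2 i ∈ W) ∧ (∀ i j, B (x.1 i) (x.1 j) = 0) ∧ (∀ i j, B (x.2 i) (x.2 j) = 0) ∧
    (∀ i j, B (x.1 i) (x.2 j) = if i = j then 1 else 0)

variable {B}

theorem isFr_cons (hB : B.IsAlt) (d : ℕ) (W : Submodule F V) (e f : V) (x : (Fin d → V) × (Fin d → V)) :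
    IsFr B (d + 1) W (Fin.cons e x.1, Fin.cons f x.2) ↔
      (e ∈ W ∧ f ∈ W ∧ B e f = 1) ∧ IsFr B d (perp2 B W e f) x := by
  have hsw : ∀ u v, B u v = 0 → B v u = 0 := by
    intro u v h; rw [← hB.neg_eq, h, neg_zero]
  simp only [IsFr, Fin.forall_fin_succ, Fin.cons_zero, Fin.cons_succ, mem_perp2, Fin.succ_inj]
  constructor
  · rintro ⟨⟨he, h1⟩, ⟨hf, h2⟩, ⟨⟨-, h3⟩, h4⟩, ⟨⟨-, h5⟩, h6⟩, ⟨h7, h8⟩, h9⟩
    refine ⟨⟨he, hf, by simpa using h7⟩, fun i => ⟨h1 i, h3 i, ?_⟩, fun i => ⟨h2 i, ?_, h5 i⟩,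
      fun i j => (h4 i).2 j, fun i j => (h6 i).2 j, fun i j => (h9 i).2 j⟩
    · apply hsw; simpa using (h9 i).1
    · simpa [Fin.succ_ne_zero, eq_comm] using h8 i
  · rintro ⟨⟨he, hf, hef⟩, h1, h2, h3, h4, h5⟩
    refine ⟨⟨he, fun i => (h1 i).1⟩, ⟨hf, fun i => (h2 i).1⟩, ⟨⟨hB e, fun i => (h1 i).2.1⟩, fun i =>
      ⟨hsw _ _ (h1 i).2.1, h3 i⟩⟩, ⟨⟨hB f, fun i => (h2 i).2.2⟩, fun i => ⟨hsw _ _ (h2 i).2.2, h4 i⟩⟩,
      ⟨by simpa using hef, fun i => ?_⟩, fun i => ⟨?_, h5 i⟩⟩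
    · simpa [Fin.succ_ne_zero, eq_comm] using (h2 i).2.1
    · simpa [Fin.succ_ne_zero] using hsw _ _ (h1 i).2.2

/-- splitting off a hyperbolic pair -/
def splitEquiv (hB : B.IsAlt) (W : Submodule F V) (e f : V) (he : e ∈ W) (hf : f ∈ W) (hef : B e f = 1) :
    W ≃ (F × F) × perp2 B W e f where
  toFun w := ((B w.1 f, B e w.1), ⟨w.1 - B w.1 f • e - B e w.1 • f, by
    rw [mem_perp2]
    refine ⟨W.sub_mem (W.sub_mem w.2 (W.smul_mem _ he)) (W.smul_mem _ hf), ?_, ?_⟩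
    · simp [hB e, hef]
    · have : B f e = -1 := by rw [← hB.neg_eq, hef]
      have h2 : B f w.1 = - B w.1 f := by rw [← hB.neg_eq]
      simp [hB f, this, h2]⟩)
  invFun y := ⟨y.1.1 • e + y.1.2 • f + y.2.1,
    W.add_mem (W.add_mem (W.smul_mem _ he) (W.smul_mem _ hf)) ((mem_perp2 B W e f _).1 y.2.2).1⟩
  left_inv w := by
    ext; simp
  right_inv y := by
    obtain ⟨⟨a, b⟩, ⟨w, hw⟩⟩ := y
    rw [mem_perp2] at hw
    have h1 : B f e = -1 := by rw [← hB.neg_eq, hef]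
    have h2 : B w f = 0 := by rw [← hB.neg_eq, hw.2.2, neg_zero]
    ext
    · simp [hB f, hef, h2]
    · simp [hB e, hef, hw.2.1]
    · simp only [map_add, map_smul, LinearMap.add_apply, LinearMap.smul_apply, hB f, hB e, hef, h2, hw.2.1,
        smul_eq_mul, mul_zero, mul_one, add_zero, zero_add]
      abel

theorem nondeg_perp2 (hB : B.IsAlt) (W : Submodule F V) (e f : V) (he : e ∈ W) (hf : f ∈ W) (hef : B e f = 1)
    (hW : Nondeg B W) : Nondeg B (perp2 B W e f) := by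
  intro w hw hw0
  have hw' := (mem_perp2 B W e f w).1 hw
  obtain ⟨u, hu, hwu⟩ := hW w hw'.1 hw0
  let y := splitEquiv hB W e f he hf hef ⟨u, hu⟩
  refine ⟨y.2.1, y.2.2, ?_⟩
  have h1 : B w e = 0 := by rw [← hB.neg_eq, hw'.2.1, neg_zero]
  have h2 : B w f = 0 := by rw [← hB.neg_eq, hw'.2.2, neg_zero]
  have : y.2.1 = u - B u f • e - B e u • f := rfl
  rw [this]
  simpa [h1, h2] using hwu

variable [Finite F] [Finite V]

theorem card_hyp (W : Submodule F V) (hW : Nondeg B W) :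
    Nat.card F * Nat.card {p : V × V // p.1 ∈ W ∧ p.2 ∈ W ∧ B p.1 p.2 = 1} = (Nat.card W - 1) * Nat.card W := by
  classical
  by_cases hq : Nat.card W = 1
  · -- W trivial
    rw [hq]
    have : IsEmpty {p : V × V // p.1 ∈ W ∧ p.2 ∈ W ∧ B p.1 p.2 = 1} := by
      constructor
      rintro ⟨⟨e, f⟩, he, hf, hef⟩
      have hsub : Subsingleton W := (Nat.card_eq_one_iff_unique.1 hq).1
      have : (⟨e, he⟩ : W) = 0 := Subsingleton.elim _ _
      have he0 : e = 0 := congrArg Subtype.val this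
      simp [he0] at hef
    simp
  have key : ∃ n, Nat.card F * n = Nat.card W ∧
      ∀ e, (e ∈ W ∧ e ≠ 0) → Nat.card {f : V // f ∈ W ∧ B e f = 1} = n := by
    have hex : ∃ e, e ∈ W ∧ e ≠ 0 := by
      by_contra hcon
      push Not at hcon
      apply hq
      rw [Nat.card_eq_one_iff_unique]
      exact ⟨⟨fun a b => Subtype.ext ((hcon a.1 a.2).trans (hcon b.1 b.2).symm)⟩, ⟨0⟩⟩
    obtain ⟨e₀, he₀⟩ := hex
    refine ⟨Nat.card {f : V // f ∈ W ∧ B e₀ f = 1}, ?_, ?_⟩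
    · obtain ⟨w', hw', h⟩ := hW e₀ he₀.1 he₀.2
      exact card_fiber_mul W (B e₀) w' hw' h 1
    · intro e he
      obtain ⟨w', hw', h⟩ := hW e₀ he₀.1 he₀.2
      obtain ⟨w'', hw'', h'⟩ := hW e he.1 he.2
      have h1 := card_fiber_mul W (B e₀) w' hw' h 1
      have h2 := card_fiber_mul W (B e) w'' hw'' h' 1
      have hpos : 0 < Nat.card F := Nat.card_pos
      exact Nat.eq_of_mul_eq_mul_left hpos (h2.trans h1.symm)
  obtain ⟨n, hn, hfib⟩ := key
  have h1 : Nat.card {p : V × V // p.1 ∈ W ∧ p.2 ∈ W ∧ B p.1 p.2 = 1}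
      = Nat.card {p : V × V // (p.1 ∈ W ∧ p.1 ≠ 0) ∧ (p.2 ∈ W ∧ B p.1 p.2 = 1)} := by
    apply Nat.card_congr
    apply Equiv.subtypeEquivRight
    rintro ⟨e, f⟩
    constructor
    · rintro ⟨he, hf, hef⟩
      refine ⟨⟨he, ?_⟩, hf, hef⟩
      rintro rfl
      simp at hef
    · rintro ⟨⟨he, -⟩, hf, hef⟩
      exact ⟨he, hf, hef⟩
  rw [h1, card_pairs (fun e : V => e ∈ W ∧ e ≠ 0) (fun e f => f ∈ W ∧ B e f = 1) n hfib]
  have h2 : Nat.card {e : V // e ∈ W ∧ e ≠ 0} = Nat.card W - 1 := by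
    have e1 : {e : V // e ∈ W ∧ e ≠ 0} ≃ {w : W // w ≠ 0} :=
      { toFun := fun e => ⟨⟨e.1, e.2.1⟩, fun h => e.2.2 (congrArg Subtype.val h)⟩
        invFun := fun w => ⟨w.1.1, w.1.2, fun h => w.2 (Subtype.ext h)⟩
        left_inv := fun e => rfl
        right_inv := fun w => rfl }
    have := Fintype.ofFinite W
    rw [Nat.card_congr e1, Nat.card_eq_fintype_card, Fintype.card_subtype_compl, Fintype.card_subtype_eq,
      Nat.card_eq_fintype_card]
  rw [h2, ← hn]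
  ring


/-- the number of symplectic frames -/
theorem card_frames (hB : B.IsAlt) (d : ℕ) : ∀ (W : Submodule F V), Nondeg B W →
    Nat.card W = Nat.card F ^ (2 * d) →
    Nat.card {x : (Fin d → V) × (Fin d → V) // IsFr B d W x} =
      ∏ i ∈ Finset.range d, ((Nat.card F ^ (2 * (i + 1)) - 1) * Nat.card F ^ (2 * i + 1)) := by
  induction d with
  | zero =>
    intro W _ _
    rw [Finset.range_zero, Finset.prod_empty, Nat.card_eq_one_iff_unique]
    refine ⟨⟨fun a b => Subtype.ext (Prod.ext (Subsingleton.elim _ _) (Subsingleton.elim _ _))⟩,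
      ⟨⟨(Fin.elim0, Fin.elim0), ?_⟩⟩⟩
    exact ⟨fun i => i.elim0, fun i => i.elim0, fun i => i.elim0, fun i => i.elim0, fun i => i.elim0⟩
  | succ d ih =>
    intro W hW hcard
    let E : (V × V) × ((Fin d → V) × (Fin d → V)) ≃ (Fin (d + 1) → V) × (Fin (d + 1) → V) :=
      (Equiv.prodProdProdComm V V (Fin d → V) (Fin d → V)).trans
        (Equiv.prodCongr (Fin.consEquiv (fun _ => V)) (Fin.consEquiv (fun _ => V)))
    have hE : ∀ y, E y = (Fin.cons y.1.1 y.2.1, Fin.cons y.1.2 y.2.2) := fun y => rfl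
    have e1 : {y : (V × V) × ((Fin d → V) × (Fin d → V)) //
        (y.1.1 ∈ W ∧ y.1.2 ∈ W ∧ B y.1.1 y.1.2 = 1) ∧ IsFr B d (perp2 B W y.1.1 y.1.2) y.2} ≃
        {x : (Fin (d + 1) → V) × (Fin (d + 1) → V) // IsFr B (d + 1) W x} :=
      E.subtypeEquiv (fun y => by rw [hE, isFr_cons hB])
    rw [← Nat.card_congr e1]
    have hq : 0 < Nat.card F := Nat.card_pos
    rw [card_pairs (fun p : V × V => p.1 ∈ W ∧ p.2 ∈ W ∧ B p.1 p.2 = 1)
      (fun p x => IsFr B d (perp2 B W p.1 p.2) x)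
      (∏ i ∈ Finset.range d, ((Nat.card F ^ (2 * (i + 1)) - 1) * Nat.card F ^ (2 * i + 1)))]
    · rw [Finset.prod_range_succ, mul_comm]
      congr 1
      have h1 := card_hyp W hW
      rw [hcard] at h1
      apply Nat.eq_of_mul_eq_mul_left hq
      rw [h1]
      have : 2 * (d + 1) = (2 * d + 1) + 1 := by ring
      rw [this, pow_succ (Nat.card F) (2 * d + 1)]
      ring
    · rintro ⟨e, f⟩ ⟨he, hf, hef⟩
      apply ih _ (nondeg_perp2 hB W e f he hf hef hW)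
      have h2 := Nat.card_congr (splitEquiv hB W e f he hf hef)
      rw [Nat.card_prod, Nat.card_prod, hcard] at h2
      have h3 : Nat.card F ^ (2 * (d + 1)) = Nat.card F * Nat.card F * Nat.card F ^ (2 * d) := by ring
      rw [h3] at h2
      exact (Nat.eq_of_mul_eq_mul_left (Nat.mul_pos hq hq) h2).symm

end Cfsg.Agent.Lib.Helper50.Symp
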