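import Mathlib

set_option autoImplicit false

/-! Semisimple endomorphisms with the same characteristic polynomial are similar. -/

namespace Cfsg.Agent.Lib.Helper50.SemiConj

open Polynomial Module

universe u v

variable {F : Type v} [Field F]

/-- an irreducible factor of the characteristic polynomial kills a nonzero vector (matrix form) -/
theorem det_aeval_eq_zero {n : Type*} [Fintype n] [DecidableEq n] (M : Matrix n n F) (P : F[X])
    (hP : Irreducible P) (hd : P ∣ M.charpoly) : (aeval M P).det = 0 := by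
  have : Fact (Irreducible P) := ⟨hP⟩
  let K := AdjoinRoot P
  let α : K := AdjoinRoot.root P
  let ι : F →+* K := algebraMap F K
  let MK : Matrix n n K := M.map ι
  let f : End K (n → K) := Matrix.toLin' MK
  have h1 : f.charpoly.IsRoot α := by
    rw [Matrix.charpoly_toLin', Matrix.charpoly_map, IsRoot.def, eval_map_algebraMap]
    obtain ⟨R, hR⟩ := hd
    rw [hR, map_mul, AdjoinRoot.aeval_eq, AdjoinRoot.mk_self, zero_mul]
  rw [← Module.End.hasEigenvalue_iff_isRoot_charpoly] at h1
  obtain ⟨x, hx⟩ := h1.exists_hasEigenvector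
  have h2 := Module.End.aeval_apply_of_hasEigenvector (p := P.map ι) hx
  have h3 : (P.map ι).eval α = 0 := by
    rw [eval_map_algebraMap, AdjoinRoot.aeval_eq, AdjoinRoot.mk_self]
  rw [h3, zero_smul] at h2
  have h4 : aeval f (P.map ι) = Matrix.toLin' ((aeval M P).map ι) := by
    have e1 : aeval f (P.map ι) = Matrix.toLinAlgEquiv' (aeval MK (P.map ι)) := by
      rw [← aeval_algHom_apply]
      rfl
    have e2 : aeval MK (P.map ι) = (aeval M P).map ι := by
      rw [aeval_map_algebraMap]
      have := aeval_algHom_apply (AlgHom.mapMatrix (m := n) (Algebra.ofId F K)) M P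
      exact this
    rw [e1, e2]
    rfl
  rw [h4, Matrix.toLin'_apply] at h2
  have h5 : ((aeval M P).map ι).det = 0 := Matrix.exists_mulVec_eq_zero_iff.1 ⟨x, hx.2, h2⟩
  have h6 : ι ((aeval M P).det) = 0 := by
    rw [RingHom.map_det]
    exact h5
  exact (map_eq_zero ι).1 h6

/-- an irreducible factor of the characteristic polynomial kills a nonzero vector -/
theorem exists_ne_zero_aeval {V : Type u} [AddCommGroup V] [Module F V] [FiniteDimensional F V]
    (g : End F V) (P : F[X]) (hP : Irreducible P) (hd : P ∣ g.charpoly) :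
    ∃ v : V, v ≠ 0 ∧ aeval g P v = 0 := by
  let b := Module.finBasis F V
  have h1 : (aeval (LinearMap.toMatrix b b g) P).det = 0 := by
    apply det_aeval_eq_zero _ _ hP
    rw [LinearMap.charpoly_toMatrix]
    exact hd
  have h2 : aeval (LinearMap.toMatrix b b g) P = LinearMap.toMatrix b b (aeval g P) := by
    have := aeval_algHom_apply (LinearMap.toMatrixAlgEquiv b) g P
    exact this
  rw [h2, LinearMap.det_toMatrix] at h1
  have h3 := LinearMap.bot_lt_ker_of_det_eq_zero h1
  obtain ⟨v, hv, hv0⟩ := SetLike.exists_of_lt h3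
  exact ⟨v, fun h => hv0 (by rw [h]; exact zero_mem _), hv⟩

/-- similarity of endomorphisms -/
def Sim {V W : Type u} [AddCommGroup V] [Module F V] [AddCommGroup W] [Module F W]
    (g : End F V) (h : End F W) : Prop := ∃ φ : V ≃ₗ[F] W, ∀ v, φ (g v) = h (φ v)

section sim
variable {V W U : Type u} [AddCommGroup V] [Module F V] [AddCommGroup W] [Module F W]
  [AddCommGroup U] [Module F U]

theorem Sim.symm {g : End F V} {h : End F W} (H : Sim g h) : Sim h g := by
  obtain ⟨φ, hφ⟩ := H
  refine ⟨φ.symm, fun w => ?_⟩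
  apply φ.injective
  rw [hφ, φ.apply_symm_apply, φ.apply_symm_apply]

theorem Sim.trans {g : End F V} {h : End F W} {k : End F U} (H : Sim g h) (H' : Sim h k) : Sim g k := by
  obtain ⟨φ, hφ⟩ := H
  obtain ⟨ψ, hψ⟩ := H'
  exact ⟨φ.trans ψ, fun v => by simp [hφ, hψ]⟩

theorem Sim.charpoly_eq [FiniteDimensional F V] [FiniteDimensional F W] {g : End F V} {h : End F W}
    (H : Sim g h) : g.charpoly = h.charpoly := by
  obtain ⟨φ, hφ⟩ := H
  have : h = φ.conj g := by
    ext w
    rw [LinearEquiv.conj_apply_apply, hφ, φ.apply_symm_apply]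
  rw [this, LinearEquiv.charpoly_conj]

theorem Sim.prod {V' W' : Type u} [AddCommGroup V'] [Module F V'] [AddCommGroup W'] [Module F W']
    {g : End F V} {h : End F W} {g' : End F V'} {h' : End F W'} (H : Sim g h) (H' : Sim g' h') :
    Sim (g.prodMap g') (h.prodMap h') := by
  obtain ⟨φ, hφ⟩ := H
  obtain ⟨ψ, hψ⟩ := H'
  exact ⟨φ.prodCongr ψ, fun v => by ext <;> simp [hφ, hψ]⟩

/-- splitting along invariant complements -/
theorem sim_prod_of_isCompl (g : End F V) {p q : Submodule F V} (hp : p ∈ g.invtSubmodule)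
    (hq : q ∈ g.invtSubmodule) (hpq : IsCompl p q) :
    Sim ((LinearMap.restrict g hp).prodMap (LinearMap.restrict g hq)) g := by
  refine ⟨Submodule.prodEquivOfIsCompl p q hpq, ?_⟩
  rintro ⟨x, y⟩
  simp only [LinearMap.prodMap_apply, Submodule.coe_prodEquivOfIsCompl', map_add]
  rfl

end sim

section cyclic
variable {V : Type u} [AddCommGroup V] [Module F V]

/-- evaluation at a vector -/
noncomputable def ev (g : End F V) (v : V) : F[X] →ₗ[F] V :=
  (LinearMap.applyₗ v) ∘ₗ (aeval g).toLinearMap

theorem ev_apply (g : End F V) (v : V) (f : F[X]) : ev g v f = aeval g f v := rfl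

theorem ev_X_mul (g : End F V) (v : V) (f : F[X]) : ev g v (X * f) = g (ev g v f) := by
  rw [ev_apply, ev_apply, map_mul, aeval_X]
  rfl

theorem range_ev_invt (g : End F V) (v : V) : LinearMap.range (ev g v) ∈ g.invtSubmodule := by
  rw [Module.End.mem_invtSubmodule_iff_forall_mem_of_mem]
  rintro _ ⟨f, rfl⟩
  exact ⟨X * f, ev_X_mul g v f⟩

theorem mem_range_ev (g : End F V) (v : V) : v ∈ LinearMap.range (ev g v) :=
  ⟨1, by rw [ev_apply, map_one]; rfl⟩

theorem ker_ev (g : End F V) (v : V) (hv : v ≠ 0) (P : F[X]) (hP : Irreducible P) (hPv : aeval g P v = 0)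
    (f : F[X]) : f ∈ LinearMap.ker (ev g v) ↔ P ∣ f := by
  rw [LinearMap.mem_ker, ev_apply]
  constructor
  · intro hf
    by_contra hcon
    obtain ⟨a, b, hab⟩ := (hP.coprime_iff_not_dvd.2 hcon)
    apply hv
    have h1 : aeval g (a * P + b * f) v = v := by rw [hab, map_one]; rfl
    rw [map_add, map_mul, map_mul, LinearMap.add_apply, Module.End.mul_apply, Module.End.mul_apply, hPv, hf,
      map_zero, map_zero, add_zero] at h1
    exact h1.symm
  · rintro ⟨k, rfl⟩
    rw [mul_comm, map_mul, Module.End.mul_apply, hPv, map_zero]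

theorem sim_cyclic {W : Type u} [AddCommGroup W] [Module F W] (g : End F V) (h : End F W) (v : V) (w : W)
    (hv : v ≠ 0) (hw : w ≠ 0) (P : F[X]) (hP : Irreducible P) (hPv : aeval g P v = 0)
    (hPw : aeval h P w = 0) :
    Sim (LinearMap.restrict g (range_ev_invt g v)) (LinearMap.restrict h (range_ev_invt h w)) := by
  have hker : LinearMap.ker (ev g v) = LinearMap.ker (ev h w) := by
    ext f
    rw [ker_ev g v hv P hP hPv, ker_ev h w hw P hP hPw]
  let φ : LinearMap.range (ev g v) ≃ₗ[F] LinearMap.range (ev h w) :=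
    ((ev g v).quotKerEquivRange.symm.trans (Submodule.quotEquivOfEq _ _ hker)).trans
      (ev h w).quotKerEquivRange
  have hφ : ∀ f : F[X], φ ⟨ev g v f, f, rfl⟩ = ⟨ev h w f, f, rfl⟩ := by
    intro f
    have e1 : (ev g v).quotKerEquivRange.symm ⟨ev g v f, f, rfl⟩ = Submodule.Quotient.mk f := by
      rw [LinearEquiv.symm_apply_eq]
      rfl
    simp only [φ, LinearEquiv.trans_apply, e1]
    rfl
  refine ⟨φ, ?_⟩
  rintro ⟨_, f, rfl⟩
  have e2 : LinearMap.restrict g (p := LinearMap.range (ev g v)) (q := LinearMap.range (ev g v))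
      (range_ev_invt g v) ⟨ev g v f, f, rfl⟩ = ⟨ev g v (X * f), X * f, rfl⟩ :=
    Subtype.ext (ev_X_mul g v f).symm
  rw [e2, hφ, hφ]
  exact Subtype.ext (ev_X_mul h w f)

end cyclic

/-- semisimple endomorphisms with the same characteristic polynomial are similar -/
theorem sim_of_charpoly (d : ℕ) : ∀ (V W : Type u) [AddCommGroup V] [Module F V] [FiniteDimensional F V]
    [AddCommGroup W] [Module F W] [FiniteDimensional F W] (g : End F V) (h : End F W),
    finrank F V = d → g.IsSemisimple → h.IsSemisimple → g.charpoly = h.charpoly → Sim g h := by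
  induction d using Nat.strong_induction_on with
  | _ d ih =>
    intro V W _ _ _ _ _ _ g h hd hg hh hc
    have hdW : finrank F W = d := by
      rw [← hd, ← LinearMap.charpoly_natDegree g, ← LinearMap.charpoly_natDegree h, hc]
    rcases Nat.eq_zero_or_pos d with h0 | hpos
    · have hW : Subsingleton W := Module.finrank_zero_iff.1 (hdW.trans h0)
      exact ⟨LinearEquiv.ofFinrankEq V W (hd.trans hdW.symm), fun v => Subsingleton.elim _ _⟩
    · have hnu : ¬ IsUnit g.charpoly := by
        intro hu
        have := natDegree_eq_zero_of_isUnit hu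
        rw [LinearMap.charpoly_natDegree, hd] at this
        omega
      obtain ⟨P, -, hP, hPd⟩ := exists_monic_irreducible_factor _ hnu
      obtain ⟨v, hv, hPv⟩ := exists_ne_zero_aeval g P hP hPd
      obtain ⟨w, hw, hPw⟩ := exists_ne_zero_aeval h P hP (hc ▸ hPd)
      obtain ⟨q, hq, hpq⟩ := (Module.End.isSemisimple_iff.1 hg) _ (range_ev_invt g v)
      obtain ⟨q', hq', hpq'⟩ := (Module.End.isSemisimple_iff.1 hh) _ (range_ev_invt h w)
      have s1 := sim_prod_of_isCompl g (range_ev_invt g v) hq hpq
      have s2 := sim_prod_of_isCompl h (range_ev_invt h w) hq' hpq'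
      have s3 := sim_cyclic g h v w hv hw P hP hPv hPw
      have c1 := s1.charpoly_eq
      have c2 := s2.charpoly_eq
      have c3 := s3.charpoly_eq
      rw [LinearMap.charpoly_prodMap] at c1 c2
      have c4 : (LinearMap.restrict g hq).charpoly = (LinearMap.restrict h hq').charpoly := by
        rw [← c1, ← c2, c3] at hc
        exact mul_left_cancel₀ (LinearMap.charpoly_monic _).ne_zero hc
      have hlt : finrank F q < d := by
        have h1 := Submodule.finrank_add_eq_of_isCompl hpq
        have h2 : 0 < finrank F (LinearMap.range (ev g v)) := by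
          rw [Module.finrank_pos_iff_exists_ne_zero]
          exact ⟨⟨v, mem_range_ev g v⟩, fun h => hv (congrArg Subtype.val h)⟩
        omega
      have s4 := ih _ hlt q q' (LinearMap.restrict g hq) (LinearMap.restrict h hq') rfl
        (hg.restrict hq) (hh.restrict hq') c4
      exact s1.symm.trans ((s3.prod s4).trans s2)

/-- matrix version -/
theorem exists_conj {n : Type} [Fintype n] [DecidableEq n] (g h : Matrix n n F)
    (hg : Module.End.IsSemisimple (Matrix.toLin' g)) (hh : Module.End.IsSemisimple (Matrix.toLin' h))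
    (hc : g.charpoly = h.charpoly) : ∃ x : (Matrix n n F)ˣ, (x : Matrix n n F) * g = h * (x : Matrix n n F) := by
  obtain ⟨φ, hφ⟩ := sim_of_charpoly _ (n → F) (n → F) (Matrix.toLin' g) (Matrix.toLin' h) rfl hg hh
    (by rw [Matrix.charpoly_toLin', Matrix.charpoly_toLin', hc])
  refine ⟨⟨LinearMap.toMatrix' φ.toLinearMap, LinearMap.toMatrix' φ.symm.toLinearMap, ?_, ?_⟩, ?_⟩
  · rw [← LinearMap.toMatrix'_comp]
    simp
  · rw [← LinearMap.toMatrix'_comp]
    simp
  · show LinearMap.toMatrix' φ.toLinearMap * g = h * LinearMap.toMatrix' φ.toLinearMap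
    apply Matrix.toLin'.injective
    rw [Matrix.toLin'_mul, Matrix.toLin'_mul, Matrix.toLin'_toMatrix']
    apply LinearMap.ext
    intro v
    exact hφ v

/-- an element of finite order prime to the characteristic is semisimple -/
theorem isSemisimple_of_pow_eq_one {V : Type u} [AddCommGroup V] [Module F V] (g : End F V) (e : ℕ)
    (he : (e : F) ≠ 0) (hg : g ^ e = 1) : g.IsSemisimple := by
  apply Module.End.isSemisimple_of_squarefree_aeval_eq_zero (p := X ^ e - 1)
  · exact (X_pow_sub_one_separable_iff.2 he).squarefree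
  · rw [map_sub, map_pow, aeval_X, map_one, hg, sub_self]

theorem exists_conj_of_pow {n : Type} [Fintype n] [DecidableEq n] (g h : Matrix n n F) (e e' : ℕ)
    (he : (e : F) ≠ 0) (he' : (e' : F) ≠ 0) (hg : g ^ e = 1) (hh : h ^ e' = 1)
    (hc : g.charpoly = h.charpoly) : ∃ x : (Matrix n n F)ˣ, (x : Matrix n n F) * g = h * (x : Matrix n n F) := by
  apply exists_conj g h _ _ hc
  · apply isSemisimple_of_pow_eq_one _ e he
    have := congrArg Matrix.toLinAlgEquiv' hg
    rw [map_pow, map_one] at this
    exact this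
  · apply isSemisimple_of_pow_eq_one _ e' he'
    have := congrArg Matrix.toLinAlgEquiv' hh
    rw [map_pow, map_one] at this
    exact this

end Cfsg.Agent.Lib.Helper50.SemiConj
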