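import Cfsg.Agent.Lib.Helper50.QuadClass

set_option autoImplicit false
open QuadraticMap

namespace Cfsg.Agent.Lib.Helper50.Quad

section iso
variable {F V : Type*} [Field F] [AddCommGroup V] [Module F V] {Q : QuadraticForm F V}

theorem IsFull.mono {τ : Type*} {Tl₁ Tl₂ : (τ → V) → Prop} (h : ∀ t, Tl₁ t → Tl₂ t) {d : ℕ} {W : Submodule F V}
    {x : ((Fin d → V) × (Fin d → V)) × (τ → V)} (hx : IsFull Q Tl₁ d W x) : IsFull Q Tl₂ d W x :=
  ⟨hx.1, hx.2.1, hx.2.2.1, hx.2.2.2.1, h _ hx.2.2.2.2⟩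

variable {τ : Type} [DecidableEq τ]

/-- a full frame has the Gram data of the standard basis of `Qgen m T` -/
theorem gram_of_full (T : QuadraticForm F (τ → F)) (m : ℕ) (W : Submodule F V)
    (x : ((Fin m → V) × (Fin m → V)) × (τ → V)) (h : IsFull Q (Tl Q T) m W x) :
    (∀ s, Q (Sum.elim (Sum.elim x.1.1 x.1.2) x.2 s) = Qgen m T (Pi.single s 1)) ∧
      ∀ s t, polar Q (Sum.elim (Sum.elim x.1.1 x.1.2) x.2 s) (Sum.elim (Sum.elim x.1.1 x.1.2) x.2 t) =
        polar (Qgen m T) (Pi.single s 1) (Pi.single t 1) := by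
  obtain ⟨-, ⟨hq1, hq2⟩, ⟨h3, h4, h5⟩, ⟨h6, h7⟩, h8, h9⟩ := h
  constructor
  · rintro ((i | i) | k)
    · simp only [Sum.elim_inl]; rw [hq1, Qgen_single_inl]
    · simp only [Sum.elim_inl, Sum.elim_inr]; rw [hq2, Qgen_single_inl]
    · simp only [Sum.elim_inr]; rw [h8, Qgen_single_inr]
  · rintro ((i | i) | k) ((j | j) | l) <;> simp only [Sum.elim_inl, Sum.elim_inr]
    · rw [h3, Qgen_polar_inl_inl]; simp
    · rw [h5, Qgen_polar_inl_inr]; simp [Pi.single_apply, eq_comm]
    · rw [h6, Qgen_polar_inr, inr_single_inl, polar_zero_left]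
    · rw [polar_comm, h5, Qgen_polar_inl_inl]; simp [Pi.single_apply]
    · rw [h4, Qgen_polar_inl_inr]; simp
    · rw [h7, Qgen_polar_inr, inr_single_inl, polar_zero_left]
    · rw [polar_comm, h6, Qgen_polar_inl_inl]; simp
    · rw [polar_comm, h7, Qgen_polar_inl_inr]; simp
    · rw [h9, Qgen_polar_inr, inr_single_inr]

variable [Fintype τ]

theorem tail_of_nondeg (T : QuadraticForm F (τ → F)) (hT : Nondeg T ⊤) (t : τ → V) (ht : Tl Q T t) (c : τ → F)
    (h : ∀ l, ∑ k, c k * polar Q (t k) (t l) = 0) : ∀ k, c k = 0 := by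
  have h1 : ∀ l, polar T c (Pi.single l 1) = 0 := by
    intro l
    have e1 : T.polarBilin.flip (Pi.single l 1) (∑ k, c k • (Pi.single k (1 : F) : τ → F)) =
        ∑ k, c k * polar Q (t k) (t l) := by
      rw [map_sum]
      simp only [map_smul, LinearMap.flip_apply, polarBilin_apply_apply, smul_eq_mul, ht.2]
    rw [← eq_sum_single c, h l] at e1
    exact e1
  have h2 : ∀ w, polar T c w = 0 := by
    intro w
    have e1 : T.polarBilin c (∑ k, w k • (Pi.single k (1 : F) : τ → F)) = 0 := by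
      rw [map_sum]
      simp only [map_smul, polarBilin_apply_apply, h1, smul_zero, Finset.sum_const_zero]
    rw [← eq_sum_single w] at e1
    exact e1
  have h3 : c = 0 := by
    by_contra hne
    obtain ⟨w', -, hw'⟩ := hT c Submodule.mem_top hne
    exact hw' (h2 w')
  intro k
  rw [h3]; rfl

/-- a space with a full frame of the right size is isometric to the standard space -/
theorem iso_of_full (T : QuadraticForm F (τ → F)) (hT : Nondeg T ⊤) (m : ℕ)
    [Nonempty ((Fin m ⊕ Fin m) ⊕ τ)] (W : Submodule F V)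
    (x : ((Fin m → V) × (Fin m → V)) × (τ → V)) (h : IsFull Q (Tl Q T) m W x)
    (hfin : Module.finrank F V = 2 * m + Fintype.card τ) :
    ∃ g : V ≃ₗ[F] ((Fin m ⊕ Fin m) ⊕ τ → F), ∀ v, Qgen m T (g v) = Q v := by
  have hli := linInd_of_full _ _ _ x h (tail_of_nondeg T hT x.2 h.2.2.2.2)
  let b := basisOfLinearIndependentOfCardEqFinrank hli (by rw [hfin]; simp; ring)
  have hb : ∀ s, b s = Sum.elim (Sum.elim x.1.1 x.1.2) x.2 s := fun s => by
    simp only [b, coe_basisOfLinearIndependentOfCardEqFinrank]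
  obtain ⟨g1, g2⟩ := gram_of_full T m W x h
  refine ⟨b.equivFun, fun v => ?_⟩
  conv_rhs => rw [← b.sum_equivFun v]
  conv_lhs => rw [eq_sum_single (b.equivFun v)]
  symm
  apply map_sum_eq
  · intro s; rw [hb, g1]
  · intro s t; rw [hb, hb, g2]

end iso

section binary
variable {F : Type*} [Field F]

/-- the binary form `α x² + β x y + γ y²` -/
noncomputable def T2 (α β γ : F) : QuadraticForm F (Fin 2 → F) :=
  α • QuadraticMap.linMulLin (LinearMap.proj 0) (LinearMap.proj 0) +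
    β • QuadraticMap.linMulLin (LinearMap.proj 0) (LinearMap.proj 1) +
    γ • QuadraticMap.linMulLin (LinearMap.proj 1) (LinearMap.proj 1)

theorem T2_apply (α β γ : F) (s : Fin 2 → F) : T2 α β γ s = α * s 0 ^ 2 + β * s 0 * s 1 + γ * s 1 ^ 2 := by
  have : T2 α β γ s = α * (s 0 * s 0) + β * (s 0 * s 1) + γ * (s 1 * s 1) := rfl
  rw [this]; ring

theorem T2_polar (α β γ : F) (u v : Fin 2 → F) :
    polar (T2 α β γ) u v = 2 * α * u 0 * v 0 + β * (u 0 * v 1 + u 1 * v 0) + 2 * γ * u 1 * v 1 := by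
  simp only [polar, T2_apply, Pi.add_apply]
  ring

theorem T2_nondeg (α β γ : F) (hd : β ^ 2 - 4 * α * γ ≠ 0) : Nondeg (T2 α β γ) ⊤ := by
  intro w _ hw
  by_contra hcon
  push Not at hcon
  have h0 := hcon (Pi.single 0 1) Submodule.mem_top
  have h1 := hcon (Pi.single 1 1) Submodule.mem_top
  rw [T2_polar] at h0 h1
  simp at h0 h1
  apply hw
  have e0 : (β ^ 2 - 4 * α * γ) * w 0 = 0 := by linear_combination β * h1 - 2 * γ * h0
  have e1 : (β ^ 2 - 4 * α * γ) * w 1 = 0 := by linear_combination β * h0 - 2 * α * h1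
  ext k
  fin_cases k
  · exact (mul_eq_zero.1 e0).resolve_left hd
  · exact (mul_eq_zero.1 e1).resolve_left hd

theorem Tl_T2_iff {V : Type*} [AddCommGroup V] [Module F V] (Q : QuadraticForm F V) (α β γ : F) (t : Fin 2 → V) :
    Tl Q (T2 α β γ) t ↔ Q (t 0) = α ∧ Q (t 1) = γ ∧ polar Q (t 0) (t 1) = β := by
  have v0 : T2 α β γ (Pi.single 0 1) = α := by rw [T2_apply]; simp
  have v1 : T2 α β γ (Pi.single 1 1) = γ := by rw [T2_apply]; simp
  have v01 : polar (T2 α β γ) (Pi.single 0 1) (Pi.single 1 1) = β := by rw [T2_polar]; simp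
  constructor
  · rintro ⟨h1, h2⟩
    exact ⟨by rw [h1, v0], by rw [h1, v1], by rw [h2, v01]⟩
  · rintro ⟨h1, h2, h3⟩
    constructor
    · intro k
      fin_cases k
      · exact h1.trans v0.symm
      · exact h2.trans v1.symm
    · intro k l
      fin_cases k <;> fin_cases l
      · simp only [Fin.zero_eta, Fin.isValue]; rw [polar_self, polar_self, h1, v0]
      · exact h3.trans v01.symm
      · simp only [Fin.zero_eta, Fin.isValue, Fin.mk_one]; rw [polar_comm, h3, polar_comm, v01]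
      · simp only [Fin.mk_one, Fin.isValue]; rw [polar_self, polar_self, h2, v1]

theorem exists_noroot [Finite F] : ∃ ζ : F, ∀ t : F, t ^ 2 + t + ζ ≠ 0 := by
  have hni : ¬ Function.Injective (fun t : F => t ^ 2 + t) := by
    intro h
    have : (0 : F) = -1 := h (by simp)
    have h1 : (1 : F) = 0 := by linear_combination this
    exact one_ne_zero h1
  have hns : ¬ Function.Surjective (fun t : F => t ^ 2 + t) := fun h => hni (Finite.injective_iff_surjective.2 h)
  rw [Function.Surjective] at hns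
  push Not at hns
  obtain ⟨c, hc⟩ := hns
  refine ⟨-c, fun t ht => hc t ?_⟩
  linear_combination ht

end binary

section classify
variable {F V : Type*} [Field F] [Fintype F] [AddCommGroup V] [Module F V] {Q : QuadraticForm F V}

/-- the zero form on the trivial space -/
abbrev T0 (F : Type*) [Field F] : QuadraticForm F (Empty → F) := 0

omit [Fintype F] in
theorem T0_nondeg : Nondeg (T0 F) ⊤ := fun w _ hw => absurd (Subsingleton.elim w 0) hw

omit [Fintype F] in
theorem Tl_T0 (t : Empty → V) : Tl Q (T0 F) t := ⟨fun k => k.elim, fun k => k.elim⟩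

/-- standard frames in even dimension, with a prescribed anisotropic binary form -/
theorem exists_frame_even2 [Finite V] (a b : F)
    (hab : ∀ z₁ z₂ : F, z₁ ^ 2 + a * z₁ * z₂ + b * z₂ ^ 2 = 0 → z₁ = 0 ∧ z₂ = 0) (d : ℕ) :
    ∀ W : Submodule F V, Nondeg Q W → Nat.card W = Fintype.card F ^ (2 * (d + 1)) →
    (∃ x : ((Fin (d + 1) → V) × (Fin (d + 1) → V)) × (Empty → V), IsFull Q (Tl Q (T0 F)) (d + 1) W x) ∨
    (∃ x : ((Fin d → V) × (Fin d → V)) × (Fin 2 → V), IsFull Q (Tl Q (T2 1 a b)) d W x) := by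
  have hq : 1 < Fintype.card F := Fintype.one_lt_card
  induction d with
  | zero =>
    intro W hW hc
    by_cases hs : ∃ e ∈ W, e ≠ 0 ∧ Q e = 0
    · obtain ⟨e, he, he0, hqe⟩ := hs
      obtain ⟨f, hf⟩ := exists_hyp W hW e he he0 hqe
      left
      refine ⟨((Fin.cons e Fin.elim0, Fin.cons f Fin.elim0), fun k : Empty => k.elim), ?_⟩
      exact (isFull_cons _ 0 W e f ((Fin.elim0, Fin.elim0), fun k : Empty => k.elim)).2
        ⟨hf, isFull_zero _ _ _ (fun k : Empty => k.elim) (Tl_T0 _)⟩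
    · push Not at hs
      right
      have hc2 : Nat.card W = Fintype.card F ^ 2 := by rw [hc]
      have hc' : Fintype.card F < Nat.card W := by
        rw [hc2]; nlinarith
      obtain ⟨t₀, ht₀, hQ₀⟩ := exists_value W hc' hs 1
      have h0 : aC Q W 0 = 1 := by
        rw [aC, Nat.card_eq_one_iff_unique]
        refine ⟨⟨fun u v => Subtype.ext ?_⟩, ⟨⟨0, W.zero_mem, map_zero Q⟩⟩⟩
        have hu : u.1 = 0 := by
          by_contra h0; exact hs u.1 u.2.1 h0 u.2.2
        have hv : v.1 = 0 := by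
          by_contra h0; exact hs v.1 v.2.1 h0 v.2.2
        rw [hu, hv]
      have h2 := card_partner W hc2 h0 a b hab t₀ ht₀ hQ₀
      have hne : Nonempty {t₁ : V // t₁ ∈ W ∧ Q t₁ = b ∧ polar Q t₀ t₁ = a} := by
        by_contra hemp
        rw [not_nonempty_iff] at hemp
        rw [Nat.card_of_isEmpty] at h2
        omega
      obtain ⟨t₁, ht₁, hQ₁, hp⟩ := hne
      refine ⟨((Fin.elim0, Fin.elim0), ![t₀, t₁]), isFull_zero _ _ _ ?_ ((Tl_T2_iff Q 1 a b _).2 ⟨hQ₀, hQ₁, hp⟩)⟩
      intro k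
      fin_cases k
      · exact ht₀
      · exact ht₁
  | succ d ih =>
    intro W hW hc
    have hc' : Fintype.card F ^ 2 < Nat.card W := by
      rw [hc]
      exact Nat.pow_lt_pow_right hq (by omega)
    obtain ⟨e, he, he0, hqe⟩ := exists_singular (Q := Q) W hc'
    obtain ⟨f, hf⟩ := exists_hyp W hW e he he0 hqe
    have h2 := card_perp2 W e f hf
    rw [hc] at h2
    have h3 : Fintype.card F ^ (2 * (d + 1 + 1)) =
        Fintype.card F * Fintype.card F * Fintype.card F ^ (2 * (d + 1)) := by ring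
    rw [h3] at h2
    have h4 := (Nat.eq_of_mul_eq_mul_left (Nat.mul_pos (by omega) (by omega)) h2).symm
    rcases ih _ (nondeg_perp2 W e f hf hW) h4 with ⟨x, hx⟩ | ⟨x, hx⟩
    · left
      exact ⟨((Fin.cons e x.1.1, Fin.cons f x.1.2), x.2), (isFull_cons _ _ W e f x).2 ⟨hf, hx⟩⟩
    · right
      exact ⟨((Fin.cons e x.1.1, Fin.cons f x.1.2), x.2), (isFull_cons _ _ W e f x).2 ⟨hf, hx⟩⟩

theorem T2_aniso_nondeg (a b : F)
    (hab : ∀ z₁ z₂ : F, z₁ ^ 2 + a * z₁ * z₂ + b * z₂ ^ 2 = 0 → z₁ = 0 ∧ z₂ = 0) : Nondeg (T2 1 a b) ⊤ := by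
  apply T2_nondeg
  have := disc_ne_zero a b hab
  intro h
  apply this
  linear_combination h

/-- classification in even dimension -/
theorem classify_even [FiniteDimensional F V] (a b : F)
    (hab : ∀ z₁ z₂ : F, z₁ ^ 2 + a * z₁ * z₂ + b * z₂ ^ 2 = 0 → z₁ = 0 ∧ z₂ = 0) (d : ℕ)
    (hV : Module.finrank F V = 2 * (d + 1)) (hQ : Nondeg Q ⊤) :
    (∃ g : V ≃ₗ[F] ((Fin (d + 1) ⊕ Fin (d + 1)) ⊕ Empty → F), ∀ v, Qgen (d + 1) (T0 F) (g v) = Q v) ∨
    (∃ g : V ≃ₗ[F] ((Fin d ⊕ Fin d) ⊕ Fin 2 → F), ∀ v, Qgen d (T2 1 a b) (g v) = Q v) := by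
  have : Finite V := Module.finite_of_finite F
  have hc : Nat.card (⊤ : Submodule F V) = Fintype.card F ^ (2 * (d + 1)) := by rw [card_top_eq, hV]
  rcases exists_frame_even2 a b hab d ⊤ hQ hc with ⟨x, hx⟩ | ⟨x, hx⟩
  · left
    exact iso_of_full (T0 F) T0_nondeg (d + 1) ⊤ x hx (by rw [hV]; simp)
  · right
    exact iso_of_full (T2 1 a b) (T2_aniso_nondeg a b hab) d ⊤ x hx (by rw [hV]; simp; ring)

theorem card_sing_plus (d : ℕ) :
    Nat.card {v : (Fin (d + 1) ⊕ Fin (d + 1)) ⊕ Empty → F // Qgen (d + 1) (T0 F) v = 0} + Fintype.card F ^ d =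
      Fintype.card F ^ (2 * d + 1) + Fintype.card F ^ (d + 1) := by
  have h1 := aC_Qgen (d + 1) (T0 F) 0
  rw [Fintype.card_empty, pow_zero] at h1
  have h2 := alpha_plus_aux (Fintype.card F) Fintype.card_pos (fun c : F => Nat.card {s : Empty → F // T0 F s = c})
    (by
      simp only [zero_apply]
      rw [Nat.card_eq_one_iff_unique]
      exact ⟨⟨fun a b => Subtype.ext (Subsingleton.elim _ _)⟩, ⟨⟨0, trivial⟩⟩⟩) d
  rw [← h1, aC] at h2
  rw [← h2]
  congr 1
  apply Nat.card_congr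
  apply Equiv.subtypeEquivRight
  intro v
  exact ⟨fun h => ⟨Submodule.mem_top, h⟩, fun h => h.2⟩

theorem card_sing_minus (a b : F)
    (hab : ∀ z₁ z₂ : F, z₁ ^ 2 + a * z₁ * z₂ + b * z₂ ^ 2 = 0 → z₁ = 0 ∧ z₂ = 0) (d : ℕ) :
    Nat.card {v : (Fin d ⊕ Fin d) ⊕ Fin 2 → F // Qgen d (T2 1 a b) v = 0} + Fintype.card F ^ (d + 1) =
      Fintype.card F ^ (2 * d + 1) + Fintype.card F ^ d := by
  have h1 := aC_Qgen d (T2 1 a b) 0
  rw [Fintype.card_fin] at h1
  have h2 := alpha_minus_aux (Fintype.card F) Fintype.card_pos (fun c : F => Nat.card {s : Fin 2 → F // T2 1 a b s = c})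
    (by
      rw [Nat.card_eq_one_iff_unique]
      refine ⟨⟨fun x y => Subtype.ext ?_⟩, ⟨⟨0, map_zero _⟩⟩⟩
      have hx := x.2
      have hy := y.2
      rw [T2_apply, one_mul] at hx hy
      have hx' := hab _ _ hx
      have hy' := hab _ _ hy
      ext k
      fin_cases k
      · exact hx'.1.trans hy'.1.symm
      · exact hx'.2.trans hy'.2.symm) d
  rw [← h1, aC] at h2
  rw [← h2]
  congr 1
  apply Nat.card_congr
  apply Equiv.subtypeEquivRight
  intro v
  exact ⟨fun h => ⟨Submodule.mem_top, h⟩, fun h => h.2⟩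

omit [Fintype F] in
theorem card_sing_congr {V' : Type*} [AddCommGroup V'] [Module F V'] {Q' : QuadraticForm F V'} (g : V ≃ₗ[F] V')
    (hg : ∀ v, Q' (g v) = Q v) : Nat.card {v : V // Q v = 0} = Nat.card {v : V' // Q' v = 0} :=
  Nat.card_congr (g.toEquiv.subtypeEquiv (fun v => by
    change _ ↔ Q' (g v) = 0
    rw [hg]))

/-- non-degenerate quadratic spaces of the same even dimension and the same number of singular vectors are isometric -/
theorem iso_of_card_sing [FiniteDimensional F V] {V' : Type*} [AddCommGroup V'] [Module F V']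
    [FiniteDimensional F V'] {Q' : QuadraticForm F V'} (d : ℕ)
    (hV : Module.finrank F V = 2 * (d + 1)) (hV' : Module.finrank F V' = 2 * (d + 1))
    (hQ : Nondeg Q ⊤) (hQ' : Nondeg Q' ⊤)
    (hcard : Nat.card {v : V // Q v = 0} = Nat.card {v : V' // Q' v = 0}) :
    ∃ g : V ≃ₗ[F] V', ∀ v, Q' (g v) = Q v := by
  obtain ⟨ζ, hζ⟩ := exists_noroot (F := F)
  have hab := aniso_of_noroot' ζ hζ
  have hq : 1 < Fintype.card F := Fintype.one_lt_card
  have hlt : Fintype.card F ^ d < Fintype.card F ^ (d + 1) := Nat.pow_lt_pow_right hq (by omega)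
  have hp := card_sing_plus (F := F) d
  have hm := card_sing_minus 1 ζ hab d
  rcases classify_even 1 ζ hab d hV hQ with ⟨g, hg⟩ | ⟨g, hg⟩ <;>
  rcases classify_even 1 ζ hab d hV' hQ' with ⟨g', hg'⟩ | ⟨g', hg'⟩
  · exact ⟨g.trans g'.symm, fun v => by rw [← hg', ← hg]; simp⟩
  · exfalso
    rw [card_sing_congr g hg, card_sing_congr g' hg'] at hcard
    omega
  · exfalso
    rw [card_sing_congr g hg, card_sing_congr g' hg'] at hcard
    omega
  · exact ⟨g.trans g'.symm, fun v => by rw [← hg', ← hg]; simp⟩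

end classify

end Cfsg.Agent.Lib.Helper50.Quad
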