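import Mathlib

set_option autoImplicit false

namespace Cfsg.Agent.Lib.Helper50

/-- If `|K| = |F| ^ d` for finite fields, then `K` carries an `F`-algebra structure of degree `d`. -/
theorem exists_algebra_of_card_pow {F K : Type*} [Field F] [Fintype F] [Field K] [Fintype K] (d : ℕ)
    (h : Fintype.card K = Fintype.card F ^ d) :
    ∃ _ : Algebra F K, Module.finrank F K = d := by
  obtain ⟨p, hpF⟩ := CharP.exists F
  obtain ⟨p', hpK⟩ := CharP.exists K
  obtain ⟨n, hp, hnF⟩ := FiniteField.card F p
  obtain ⟨n', hp', hnK⟩ := FiniteField.card K p'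
  have hpp : p' = p := by
    have h1 : p' ∣ p ^ ((n : ℕ) * d) := by
      rw [pow_mul, ← hnF, ← h, hnK]
      exact dvd_pow_self _ n'.ne_zero
    exact (Nat.prime_dvd_prime_iff_eq hp' hp).1 (hp'.dvd_of_dvd_pow h1)
  subst hpp
  haveI : Fact p'.Prime := ⟨hp⟩
  letI : Algebra (ZMod p') F := ZMod.algebra _ _
  letI : Algebra (ZMod p') K := ZMod.algebra _ _
  have hfF : Module.finrank (ZMod p') F = n := by
    have := FiniteField.pow_finrank_eq_card p' F
    rw [hnF] at this
    exact Nat.pow_right_injective hp.two_le this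
  have hfK : Module.finrank (ZMod p') K = n * d := by
    have := FiniteField.pow_finrank_eq_card p' K
    rw [h, hnF, ← pow_mul] at this
    exact Nat.pow_right_injective hp.two_le this
  obtain ⟨φ⟩ := FiniteField.nonempty_algHom_of_finrank_dvd (F := ZMod p') (K := F) (L := K)
    (by rw [hfF, hfK]; exact dvd_mul_right _ _)
  refine ⟨φ.toRingHom.toAlgebra, ?_⟩
  letI : Algebra F K := φ.toRingHom.toAlgebra
  have h2 := Module.card_eq_pow_finrank (K := F) (V := K)
  rw [h] at h2
  exact (Nat.pow_right_injective (Fintype.one_lt_card : 1 < Fintype.card F) h2).symm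

end Cfsg.Agent.Lib.Helper50
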