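import Cfsg.Agent.Lib.Helper50.QuadMinus

set_option autoImplicit false
open QuadraticMap

namespace Cfsg.Agent.Lib.Helper50.Quad

section surj
variable {F : Type*} [Field F] [Fintype F]

/-- an anisotropic binary form over a finite field represents everything -/
theorem form_surj (a b : F)
    (hab : ∀ z₁ z₂ : F, z₁ ^ 2 + a * z₁ * z₂ + b * z₂ ^ 2 = 0 → z₁ = 0 ∧ z₂ = 0) (c : F) :
    ∃ x y : F, x ^ 2 + a * x * y + b * y ^ 2 = c := by
  by_cases hc : c = 0
  · exact ⟨0, 0, by simp [hc]⟩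
  obtain ⟨K, _, _, _, h2⟩ := exists_quadratic_ext F
  obtain ⟨θ, hθ, hs, hp⟩ := exists_root_conj (K := K) h2 a b hab
  obtain ⟨l, -, hl⟩ := exists_norm_eq (card_K h2) (algebraMap F K c)
    (fun h => hc ((map_eq_zero _).1 h)) (algebraMap_pow_q c)
  have h3 := coordEquiv_norm h2 θ hθ a b hs hp ((coordEquiv h2 θ hθ).symm l)
  rw [Equiv.apply_symm_apply, ← pow_succ', hl] at h3
  exact ⟨_, _, ((algebraMap F K).injective h3).symm⟩

end surj

section space
variable {F V : Type*} [Field F] [Fintype F] [AddCommGroup V] [Module F V] {Q : QuadraticForm F V}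

omit [Fintype F] in
theorem exists_ne_zero (W : Submodule F V) (hc : 1 < Nat.card W) : ∃ u ∈ W, u ≠ 0 := by
  by_contra hcon
  push Not at hcon
  have : Nat.card W = 1 := by
    rw [Nat.card_eq_one_iff_unique]
    exact ⟨⟨fun a b => Subtype.ext ((hcon a.1 a.2).trans (hcon b.1 b.2).symm)⟩, ⟨0⟩⟩
  omega

theorem exists_not_smul (W : Submodule F V) (hc : Fintype.card F < Nat.card W) (u : V) (hu : u ∈ W) :
    ∃ v ∈ W, ∀ c : F, v ≠ c • u := by
  by_contra hcon
  push Not at hcon
  have hsurj : Function.Surjective (fun c : F => (⟨c • u, W.smul_mem c hu⟩ : W)) := by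
    intro w
    obtain ⟨c, hc'⟩ := hcon w.1 w.2
    exact ⟨c, Subtype.ext hc'.symm⟩
  have := Nat.card_le_card_of_surjective _ hsurj
  rw [Nat.card_eq_fintype_card (α := F)] at this
  omega

/-- a non-zero vector of `W` killed by one functional -/
theorem exists_ker_one (W : Submodule F V) (hc : Fintype.card F < Nat.card W) (φ : V →ₗ[F] F) :
    ∃ z ∈ W, z ≠ 0 ∧ φ z = 0 := by
  have hni : ¬ Function.Injective (fun w : W => φ w.1) := by
    intro hinj
    have := Nat.card_le_card_of_injective _ hinj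
    rw [Nat.card_eq_fintype_card (α := F)] at this
    omega
  rw [Function.not_injective_iff] at hni
  obtain ⟨w₁, w₂, h, hne⟩ := hni
  refine ⟨w₁.1 - w₂.1, W.sub_mem w₁.2 w₂.2, fun h0 => hne (Subtype.ext (sub_eq_zero.1 h0)), ?_⟩
  rw [map_sub, sub_eq_zero]
  exact h

/-- a non-zero vector of `W` killed by two functionals -/
theorem exists_ker_two (W : Submodule F V) (hc : Fintype.card F ^ 2 < Nat.card W) (φ ψ : V →ₗ[F] F) :
    ∃ z ∈ W, z ≠ 0 ∧ φ z = 0 ∧ ψ z = 0 := by
  have hni : ¬ Function.Injective (fun w : W => (φ w.1, ψ w.1)) := by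
    intro hinj
    have := Nat.card_le_card_of_injective _ hinj
    rw [Nat.card_prod, Nat.card_eq_fintype_card (α := F), ← _root_.sq] at this
    omega
  rw [Function.not_injective_iff] at hni
  obtain ⟨w₁, w₂, h, hne⟩ := hni
  refine ⟨w₁.1 - w₂.1, W.sub_mem w₁.2 w₂.2, fun h0 => hne (Subtype.ext (sub_eq_zero.1 h0)), ?_, ?_⟩
  · rw [map_sub, sub_eq_zero]
    exact congrArg Prod.fst h
  · rw [map_sub, sub_eq_zero]
    exact congrArg Prod.snd h

/-- coordinates on a plane inside an anisotropic space -/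
theorem exists_binary (W : Submodule F V) (hc : Fintype.card F < Nat.card W)
    (han : ∀ e ∈ W, e ≠ 0 → Q e ≠ 0) :
    ∃ u ∈ W, ∃ v ∈ W, ∃ a b : F, Q u ≠ 0 ∧
      (∀ z₁ z₂ : F, z₁ ^ 2 + a * z₁ * z₂ + b * z₂ ^ 2 = 0 → z₁ = 0 ∧ z₂ = 0) ∧
      polar Q u v = a * Q u ∧ Q v = b * Q u ∧
      ∀ x y : F, Q (x • u + y • v) = Q u * (x ^ 2 + a * x * y + b * y ^ 2) := by
  have hq : 1 < Fintype.card F := Fintype.one_lt_card
  obtain ⟨u, hu, hu0⟩ := exists_ne_zero W (by omega)
  obtain ⟨v, hv, hnot⟩ := exists_not_smul W hc u hu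
  have hQu := han u hu hu0
  have hform : ∀ x y : F, Q (x • u + y • v) = Q u * (x ^ 2 + (polar Q u v / Q u) * x * y + (Q v / Q u) * y ^ 2) := by
    intro x y
    rw [QuadraticMap.map_add Q, QuadraticMap.map_smul, QuadraticMap.map_smul, polar_smul_left, polar_smul_right]
    simp only [smul_eq_mul]
    field_simp
    ring
  refine ⟨u, hu, v, hv, polar Q u v / Q u, Q v / Q u, hQu, ?_, by field_simp, by field_simp, hform⟩
  intro z₁ z₂ h
  have h1 : Q (z₁ • u + z₂ • v) = 0 := by rw [hform, h, mul_zero]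
  have h2 : z₁ • u + z₂ • v = 0 := by
    by_contra hne
    exact han _ (W.add_mem (W.smul_mem _ hu) (W.smul_mem _ hv)) hne h1
  have h3 : z₂ = 0 := by
    by_contra hne
    apply hnot (-(z₁ / z₂))
    have : z₂ • v = -(z₁ • u) := by
      rw [eq_neg_iff_add_eq_zero, add_comm]; exact h2
    calc v = z₂⁻¹ • (z₂ • v) := by rw [smul_smul, inv_mul_cancel₀ hne, one_smul]
      _ = -(z₁ / z₂) • u := by rw [this, smul_neg, smul_smul, neg_smul, div_eq_inv_mul]
  subst h3
  rw [zero_smul, add_zero] at h2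
  exact ⟨(smul_eq_zero.1 h2).resolve_right hu0, rfl⟩

/-- an anisotropic space with more than `q` vectors represents everything -/
theorem exists_value (W : Submodule F V) (hc : Fintype.card F < Nat.card W)
    (han : ∀ e ∈ W, e ≠ 0 → Q e ≠ 0) (c : F) : ∃ w ∈ W, Q w = c := by
  obtain ⟨u, hu, v, hv, a, b, hQu, hab, -, -, hform⟩ := exists_binary W hc han
  obtain ⟨x, y, hxy⟩ := form_surj a b hab (c / Q u)
  refine ⟨x • u + y • v, W.add_mem (W.smul_mem _ hu) (W.smul_mem _ hv), ?_⟩
  rw [hform, hxy]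
  field_simp

/-- Chevalley: more than `q ^ 2` vectors force a singular vector -/
theorem exists_singular (W : Submodule F V) (hc : Fintype.card F ^ 2 < Nat.card W) :
    ∃ e ∈ W, e ≠ 0 ∧ Q e = 0 := by
  by_contra hcon
  push Not at hcon
  have hq : 1 < Fintype.card F := Fintype.one_lt_card
  have hc' : Fintype.card F < Nat.card W := by nlinarith
  obtain ⟨u, hu, v, hv, a, b, hQu, hab, huv, hQv, hform⟩ := exists_binary W hc' hcon
  obtain ⟨z, hz, hz0, hzu, hzv⟩ := exists_ker_two W hc (Q.polarBilin u) (Q.polarBilin v)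
  simp only [polarBilin_apply_apply] at hzu hzv
  obtain ⟨x, y, hxy⟩ := form_surj a b hab (-Q z / Q u)
  have hmem : x • u + y • v + z ∈ W := W.add_mem (W.add_mem (W.smul_mem _ hu) (W.smul_mem _ hv)) hz
  have hQ0 : Q (x • u + y • v + z) = 0 := by
    rw [QuadraticMap.map_add Q, hform, hxy, polar_add_left, polar_smul_left, polar_smul_left, hzu, hzv]
    simp only [smul_eq_mul]
    field_simp
    ring
  have hne : x • u + y • v + z ≠ 0 := by
    intro h0
    have hz' : z = -(x • u + y • v) := by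
      rw [eq_neg_iff_add_eq_zero, add_comm]; exact h0
    have e1 : 2 * x + a * y = 0 := by
      have : polar Q u z = -((2 * x + a * y) * Q u) := by
        rw [hz', polar_neg_right, polar_add_right, polar_smul_right, polar_smul_right, polar_self, huv]
        simp only [smul_eq_mul, nsmul_eq_mul]
        push_cast
        ring
      rw [hzu] at this
      have h3 : (2 * x + a * y) * Q u = 0 := by linear_combination this
      exact (mul_eq_zero.1 h3).resolve_right hQu
    have e2 : a * x + 2 * b * y = 0 := by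
      have : polar Q v z = -((a * x + 2 * b * y) * Q u) := by
        rw [hz', polar_neg_right, polar_add_right, polar_smul_right, polar_smul_right, polar_self, polar_comm, huv,
          hQv]
        simp only [smul_eq_mul, nsmul_eq_mul]
        push_cast
        ring
      rw [hzv] at this
      have h3 : (a * x + 2 * b * y) * Q u = 0 := by linear_combination this
      exact (mul_eq_zero.1 h3).resolve_right hQu
    have hd := disc_ne_zero a b hab
    have hx : x = 0 := by
      have : (a ^ 2 - 4 * b) * x = 0 := by linear_combination a * e2 - 2 * b * e1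
      exact (mul_eq_zero.1 this).resolve_left hd
    have hy : y = 0 := by
      have : (a ^ 2 - 4 * b) * y = 0 := by linear_combination a * e1 - 2 * e2
      exact (mul_eq_zero.1 this).resolve_left hd
    apply hz0
    rw [hz', hx, hy]
    simp
  exact hcon _ hmem hne hQ0

omit [Fintype F] in
/-- completing a singular vector to a hyperbolic pair -/
theorem exists_hyp (W : Submodule F V) (hW : Nondeg Q W) (e : V) (he : e ∈ W) (he0 : e ≠ 0) (hqe : Q e = 0) :
    ∃ f, IsHyp Q W (e, f) := by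
  obtain ⟨w', hw', h⟩ := hW e he he0
  obtain ⟨f', hf'W, h1⟩ : ∃ f' ∈ W, polar Q e f' = 1 :=
    ⟨(polar Q e w')⁻¹ • w', W.smul_mem _ hw', by rw [polar_smul_right, smul_eq_mul, inv_mul_cancel₀ h]⟩
  refine ⟨f' - Q f' • e, he, W.sub_mem hf'W (W.smul_mem _ he), hqe, ?_, ?_⟩
  · simp only
    rw [sub_eq_add_neg, ← neg_smul, QuadraticMap.map_add Q, QuadraticMap.map_smul, hqe, polar_smul_right,
      polar_comm, h1]
    simp
  · simp only
    rw [polar_sub_right, polar_smul_right, polar_self_of_zero hqe, h1]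
    simp

/-- elliptic tail -/
def TlE (Q : QuadraticForm F V) (ζ : F) (t : Fin 2 → V) : Prop :=
  Q (t 0) = 1 ∧ polar Q (t 0) (t 1) = 1 ∧ Q (t 1) = ζ

omit [Fintype F] in
theorem isFull_zero {τ : Type*} (Tl : (τ → V) → Prop) (W : Submodule F V) (t : τ → V) (ht : ∀ k, t k ∈ W)
    (hT : Tl t) : IsFull Q Tl 0 W ((Fin.elim0, Fin.elim0), t) :=
  ⟨⟨fun i => i.elim0, fun i => i.elim0, ht⟩, ⟨fun i => i.elim0, fun i => i.elim0⟩,
    ⟨fun i => i.elim0, fun i => i.elim0, fun i => i.elim0⟩, ⟨fun i => i.elim0, fun i => i.elim0⟩, hT⟩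

theorem exists_elliptic_pair (W : Submodule F V) (hW : Nondeg Q W) (hc : Fintype.card F < Nat.card W)
    (han : ∀ e ∈ W, e ≠ 0 → Q e ≠ 0) :
    ∃ x ∈ W, ∃ y ∈ W, Q x = 1 ∧ polar Q x y = 1 ∧ ∀ t : F, t ^ 2 + t + Q y ≠ 0 := by
  obtain ⟨x, hx, hQx⟩ := exists_value W hc han 1
  have hx0 : x ≠ 0 := by
    intro h; rw [h, map_zero] at hQx; exact zero_ne_one hQx
  obtain ⟨w', hw', h⟩ := hW x hx hx0
  obtain ⟨y₁, hy₁W, h1⟩ : ∃ y₁ ∈ W, polar Q x y₁ = 1 :=
    ⟨(polar Q x w')⁻¹ • w', W.smul_mem _ hw', by rw [polar_smul_right, smul_eq_mul, inv_mul_cancel₀ h]⟩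
  obtain ⟨y, hy, hxy, hnot⟩ : ∃ y ∈ W, polar Q x y = 1 ∧ ∀ c : F, y ≠ c • x := by
    by_cases hy₁ : ∀ c : F, y₁ ≠ c • x
    · exact ⟨y₁, hy₁W, h1, hy₁⟩
    · push Not at hy₁
      obtain ⟨c, hc₁⟩ := hy₁
      obtain ⟨z, hz, hz0, hxz⟩ := exists_ker_one W hc (Q.polarBilin x)
      rw [polarBilin_apply_apply] at hxz
      refine ⟨y₁ + z, W.add_mem hy₁W hz, by rw [polar_add_right, h1, hxz, add_zero], ?_⟩
      intro c' hc'
      have hz' : z = (c' - c) • x := by
        rw [sub_smul, ← hc', ← hc₁]; abel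
      have hxx : polar Q x x ≠ 0 := by
        intro h0
        rw [hc₁, polar_smul_right, h0, smul_zero] at h1
        exact zero_ne_one h1
      rw [hz', polar_smul_right, smul_eq_mul] at hxz
      have : c' - c = 0 := (mul_eq_zero.1 hxz).resolve_right hxx
      apply hz0
      rw [hz', this, zero_smul]
  refine ⟨x, hx, y, hy, hQx, hxy, ?_⟩
  intro t ht
  have h2 : Q (t • x + y) = t ^ 2 + t + Q y := by
    rw [QuadraticMap.map_add Q, QuadraticMap.map_smul, hQx, polar_smul_left, hxy]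
    simp only [smul_eq_mul]
    ring
  have h3 : t • x + y ≠ 0 := by
    intro h0
    apply hnot (-t)
    rw [neg_smul, eq_neg_iff_add_eq_zero, add_comm]
    exact h0
  exact han _ (W.add_mem (W.smul_mem _ hx) hy) h3 (h2.trans ht)

/-- standard frames in even dimension -/
theorem exists_frame_even (d : ℕ) : ∀ W : Submodule F V, Nondeg Q W →
    Nat.card W = Fintype.card F ^ (2 * (d + 1)) →
    (∃ x : ((Fin (d + 1) → V) × (Fin (d + 1) → V)) × (Empty → V), IsFull Q (fun _ => True) (d + 1) W x) ∨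
    (∃ (ζ : F) (x : ((Fin d → V) × (Fin d → V)) × (Fin 2 → V)),
      (∀ t : F, t ^ 2 + t + ζ ≠ 0) ∧ IsFull Q (TlE Q ζ) d W x) := by
  have hq : 1 < Fintype.card F := Fintype.one_lt_card
  induction d with
  | zero =>
    intro W hW hc
    by_cases hs : ∃ e ∈ W, e ≠ 0 ∧ Q e = 0
    · obtain ⟨e, he, he0, hqe⟩ := hs
      obtain ⟨f, hf⟩ := exists_hyp W hW e he he0 hqe
      left
      refine ⟨((Fin.cons e Fin.elim0, Fin.cons f Fin.elim0), fun k : Empty => k.elim), ?_⟩
      exact (isFull_cons (fun _ => True) 0 W e f ((Fin.elim0, Fin.elim0), fun k : Empty => k.elim)).2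
        ⟨hf, isFull_zero _ _ _ (fun k : Empty => k.elim) trivial⟩
    · push Not at hs
      right
      have hc' : Fintype.card F < Nat.card W := by
        rw [hc]
        calc Fintype.card F = Fintype.card F ^ 1 := (pow_one _).symm
          _ < _ := Nat.pow_lt_pow_right hq (by omega)
      obtain ⟨x, hx, y, hy, hQx, hxy, hζ⟩ := exists_elliptic_pair W hW hc' hs
      refine ⟨Q y, ((Fin.elim0, Fin.elim0), ![x, y]), hζ, isFull_zero _ _ _ ?_ ⟨hQx, hxy, rfl⟩⟩
      intro k
      fin_cases k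
      · exact hx
      · exact hy
  | succ d ih =>
    intro W hW hc
    have hc' : Fintype.card F ^ 2 < Nat.card W := by
      rw [hc]
      exact Nat.pow_lt_pow_right hq (by omega)
    obtain ⟨e, he, he0, hqe⟩ := exists_singular (Q := Q) W hc'
    obtain ⟨f, hf⟩ := exists_hyp W hW e he he0 hqe
    have h2 := card_perp2 W e f hf
    rw [hc] at h2
    have h3 : Fintype.card F ^ (2 * (d + 1 + 1)) =
        Fintype.card F * Fintype.card F * Fintype.card F ^ (2 * (d + 1)) := by ring
    rw [h3] at h2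
    have h4 := (Nat.eq_of_mul_eq_mul_left (Nat.mul_pos (by omega) (by omega)) h2).symm
    rcases ih _ (nondeg_perp2 W e f hf hW) h4 with ⟨x, hx⟩ | ⟨ζ, x, hζ, hx⟩
    · left
      exact ⟨((Fin.cons e x.1.1, Fin.cons f x.1.2), x.2), (isFull_cons _ _ W e f x).2 ⟨hf, hx⟩⟩
    · right
      exact ⟨ζ, ((Fin.cons e x.1.1, Fin.cons f x.1.2), x.2), hζ, (isFull_cons _ _ W e f x).2 ⟨hf, hx⟩⟩

/-- standard frames in odd dimension -/
theorem exists_frame_odd (d : ℕ) : ∀ W : Submodule F V, Nondeg Q W →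
    Nat.card W = Fintype.card F ^ (2 * d + 1) →
    ∃ x : ((Fin d → V) × (Fin d → V)) × (Unit → V),
      IsFull Q (fun t => polar Q (t ()) (t ()) ≠ 0) d W x := by
  have hq : 1 < Fintype.card F := Fintype.one_lt_card
  induction d with
  | zero =>
    intro W hW hc
    rw [mul_zero, zero_add, pow_one] at hc
    obtain ⟨x, hx, hx0⟩ := exists_ne_zero W (by omega)
    obtain ⟨w', hw', h⟩ := hW x hx hx0
    have hinj : Function.Injective (fun c : F => (⟨c • x, W.smul_mem c hx⟩ : W)) := by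
      intro c c' hcc
      have h1 : c • x = c' • x := congrArg Subtype.val hcc
      exact smul_left_injective F hx0 h1
    have : Finite W := Nat.finite_of_card_ne_zero (by omega)
    have hbij := hinj.bijective_of_nat_card_le (by rw [hc, Nat.card_eq_fintype_card])
    obtain ⟨c, hc'⟩ := hbij.2 ⟨w', hw'⟩
    have hw'' : w' = c • x := (congrArg Subtype.val hc').symm
    refine ⟨((Fin.elim0, Fin.elim0), fun _ => x), isFull_zero _ _ _ (fun _ => hx) ?_⟩
    intro h0
    apply h
    rw [hw'', polar_smul_right, h0, smul_zero]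
  | succ d ih =>
    intro W hW hc
    have hc' : Fintype.card F ^ 2 < Nat.card W := by
      rw [hc]
      exact Nat.pow_lt_pow_right hq (by omega)
    obtain ⟨e, he, he0, hqe⟩ := exists_singular (Q := Q) W hc'
    obtain ⟨f, hf⟩ := exists_hyp W hW e he he0 hqe
    have h2 := card_perp2 W e f hf
    rw [hc] at h2
    have h3 : Fintype.card F ^ (2 * (d + 1) + 1) =
        Fintype.card F * Fintype.card F * Fintype.card F ^ (2 * d + 1) := by ring
    rw [h3] at h2
    have h4 := (Nat.eq_of_mul_eq_mul_left (Nat.mul_pos (by omega) (by omega)) h2).symm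
    obtain ⟨x, hx⟩ := ih _ (nondeg_perp2 W e f hf hW) h4
    exact ⟨((Fin.cons e x.1.1, Fin.cons f x.1.2), x.2), (isFull_cons _ _ W e f x).2 ⟨hf, hx⟩⟩

omit [Fintype F] in
/-- a full frame with non-degenerate tail is linearly independent -/
theorem linInd_of_full {τ : Type*} [Fintype τ] (Tl : (τ → V) → Prop) (d : ℕ) (W : Submodule F V)
    (x : ((Fin d → V) × (Fin d → V)) × (τ → V)) (h : IsFull Q Tl d W x)
    (htail : ∀ c : τ → F, (∀ l, ∑ k, c k * polar Q (x.2 k) (x.2 l) = 0) → ∀ k, c k = 0) :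
    LinearIndependent F (Sum.elim (Sum.elim x.1.1 x.1.2) x.2) := by
  classical
  rw [Fintype.linearIndependent_iff]
  intro g hg
  obtain ⟨-, -, ⟨h3, h4, h5⟩, ⟨h6, h7⟩, -⟩ := h
  have key : ∀ y : V, ∑ i, g (.inl (.inl i)) * polar Q (x.1.1 i) y + ∑ i, g (.inl (.inr i)) * polar Q (x.1.2 i) y
      + ∑ k, g (.inr k) * polar Q (x.2 k) y = 0 := by
    intro y
    have h1 : Q.polarBilin.flip y (∑ s, g s • Sum.elim (Sum.elim x.1.1 x.1.2) x.2 s) = 0 := by
      rw [hg, map_zero]
    rw [map_sum] at h1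
    simp only [map_smul, LinearMap.flip_apply, polarBilin_apply_apply, smul_eq_mul,
      Fintype.sum_sum_type, Sum.elim_inl, Sum.elim_inr] at h1
    exact h1
  have e1 : ∀ j, g (.inl (.inl j)) = 0 := by
    intro j
    have := key (x.1.2 j)
    simp only [h5, h4, polar_comm Q (x.2 _) (x.1.2 j), h7, mul_zero, Finset.sum_const_zero, add_zero, mul_ite, mul_one,
      Finset.sum_ite_eq', Finset.mem_univ, if_true] at this
    exact this
  have e2 : ∀ j, g (.inl (.inr j)) = 0 := by
    intro j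
    have := key (x.1.1 j)
    simp only [h3, polar_comm Q (x.1.2 _) (x.1.1 j), h5, polar_comm Q (x.2 _) (x.1.1 j), h6, mul_zero,
      Finset.sum_const_zero, add_zero, zero_add, mul_ite, mul_one, Finset.sum_ite_eq, Finset.mem_univ, if_true] at this
    exact this
  have e3 : ∀ k, g (.inr k) = 0 := by
    apply htail (fun k => g (.inr k))
    intro l
    have := key (x.2 l)
    simp only [h6, h7, mul_zero, Finset.sum_const_zero, zero_add] at this
    exact this
  rintro ((i | i) | k)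
  · exact e1 i
  · exact e2 i
  · exact e3 k

omit [Fintype F] in
theorem nondeg_top (hQ : (QuadraticMap.polarBilin Q).Nondegenerate) : Nondeg Q ⊤ := by
  intro w _ hw
  by_contra hcon
  push Not at hcon
  exact hw (hQ.1 w (fun y => hcon y Submodule.mem_top))

theorem card_top_eq [FiniteDimensional F V] :
    Nat.card (⊤ : Submodule F V) = Fintype.card F ^ Module.finrank F V := by
  rw [Nat.card_congr (Submodule.topEquiv (R := F) (M := V)).toEquiv, Module.natCard_eq_pow_finrank (K := F),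
    Nat.card_eq_fintype_card]

omit [Fintype F] in
theorem aniso_of_noroot' (ζ : F) (hζ : ∀ t : F, t ^ 2 + t + ζ ≠ 0) :
    ∀ z₁ z₂ : F, z₁ ^ 2 + 1 * z₁ * z₂ + ζ * z₂ ^ 2 = 0 → z₁ = 0 ∧ z₂ = 0 := by
  intro z₁ z₂ h
  have h2 : z₂ = 0 := by
    by_contra hne
    apply hζ (z₁ / z₂)
    field_simp
    linear_combination h
  subst h2
  refine ⟨?_, rfl⟩
  have : z₁ ^ 2 = 0 := by linear_combination h
  exact pow_eq_zero_iff two_ne_zero |>.1 this

/-- the Gram matrix of an elliptic pair is non-degenerate -/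
theorem tail_elliptic (ζ : F) (hζ : ∀ t : F, t ^ 2 + t + ζ ≠ 0) (t : Fin 2 → V) (ht : TlE Q ζ t) (c : Fin 2 → F)
    (h : ∀ l, ∑ k, c k * polar Q (t k) (t l) = 0) : ∀ k, c k = 0 := by
  obtain ⟨h0, h01, h1⟩ := ht
  have hd := disc_ne_zero 1 ζ (aniso_of_noroot' ζ hζ)
  have e0 := h 0
  have e1 := h 1
  rw [Fin.sum_univ_two] at e0 e1
  rw [polar_self, h0, polar_comm, h01] at e0
  rw [polar_self, h1, h01] at e1
  simp only [nsmul_eq_mul] at e0 e1
  push_cast at e0 e1
  have c0 : (1 ^ 2 - 4 * ζ) * c 0 = 0 := by linear_combination e1 - 2 * ζ * e0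
  have c1 : (1 ^ 2 - 4 * ζ) * c 1 = 0 := by linear_combination e0 - 2 * e1
  intro k
  fin_cases k
  · exact (mul_eq_zero.1 c0).resolve_left hd
  · exact (mul_eq_zero.1 c1).resolve_left hd

end space

end Cfsg.Agent.Lib.Helper50.Quad
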