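import Cfsg.Agent.Lib.Helper50.QuadStd

set_option autoImplicit false

namespace Cfsg.Agent.Lib.Helper50.Quad

section closed
variable {F : Type*} [Zero F]

theorem sub_one_mul_add_one (x : ℕ) (hx : 1 ≤ x) : (x - 1) * (x + 1) = x ^ 2 - 1 := by
  obtain ⟨y, rfl⟩ : ∃ y, x = y + 1 := ⟨x - 1, by omega⟩
  have : (y + 1) ^ 2 = (y * (y + 1 + 1)) + 1 := by ring
  rw [this]
  simp

theorem alpha_plus_aux (q : ℕ) (hq : 1 ≤ q) (α₀ : F → ℕ) (h : α₀ 0 = 1) (j : ℕ) :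
    alpha q 1 α₀ (j + 1) 0 + q ^ j = q ^ (2 * j + 1) + q ^ (j + 1) := by
  obtain ⟨r, rfl⟩ : ∃ r, q = r + 1 := ⟨q - 1, by omega⟩
  induction j with
  | zero => simp [alpha, h]; ring
  | succ j ih =>
    rw [alpha]
    have : (r + 1) * alpha (r + 1) 1 α₀ (j + 1) 0 + (r + 1 - 1) * ((r + 1) ^ (2 * (j + 1)) * 1) + (r + 1) ^ (j + 1)
        = (r + 1) * (alpha (r + 1) 1 α₀ (j + 1) 0 + (r + 1) ^ j) + r * (r + 1) ^ (2 * (j + 1)) := by
      rw [Nat.add_sub_cancel]; ring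
    rw [this, ih]
    ring

theorem alpha_plus (q : ℕ) (hq : 1 ≤ q) (α₀ : F → ℕ) (h : α₀ 0 = 1) (j : ℕ) :
    alpha q 1 α₀ (j + 1) 0 - 1 = (q ^ (j + 1) - 1) * (q ^ j + 1) := by
  have h1 := alpha_plus_aux q hq α₀ h j
  have h2 : 1 ≤ q ^ (j + 1) := Nat.one_le_pow _ _ hq
  obtain ⟨y, hy⟩ : ∃ y, q ^ (j + 1) = y + 1 := ⟨q ^ (j + 1) - 1, by omega⟩
  have h3 : q ^ (2 * j + 1) = q ^ (j + 1) * q ^ j := by ring
  rw [h3, hy] at h1
  rw [hy, Nat.add_sub_cancel]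
  have h4 : alpha q 1 α₀ (j + 1) 0 = y * (q ^ j + 1) + 1 := by
    have : (y + 1) * q ^ j + (y + 1) = (y * (q ^ j + 1) + 1) + q ^ j := by ring
    rw [this] at h1
    exact Nat.add_right_cancel h1
  rw [h4, Nat.add_sub_cancel]

theorem alpha_odd (q : ℕ) (hq : 1 ≤ q) (α₀ : F → ℕ) (h : α₀ 0 = 1) (j : ℕ) :
    alpha q q α₀ j 0 = q ^ (2 * j) := by
  obtain ⟨r, rfl⟩ : ∃ r, q = r + 1 := ⟨q - 1, by omega⟩
  induction j with
  | zero => simp [alpha, h]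
  | succ j ih =>
    rw [alpha, ih, Nat.add_sub_cancel]
    ring

theorem alpha_minus_aux (q : ℕ) (hq : 1 ≤ q) (α₀ : F → ℕ) (h : α₀ 0 = 1) (j : ℕ) :
    alpha q (q ^ 2) α₀ j 0 + q ^ (j + 1) = q ^ (2 * j + 1) + q ^ j := by
  obtain ⟨r, rfl⟩ : ∃ r, q = r + 1 := ⟨q - 1, by omega⟩
  induction j with
  | zero => simp [alpha, h]; ring
  | succ j ih =>
    rw [alpha]
    have : (r + 1) * alpha (r + 1) ((r + 1) ^ 2) α₀ j 0 + (r + 1 - 1) * ((r + 1) ^ (2 * j) * (r + 1) ^ 2)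
          + (r + 1) ^ (j + 1 + 1)
        = (r + 1) * (alpha (r + 1) ((r + 1) ^ 2) α₀ j 0 + (r + 1) ^ (j + 1)) + r * (r + 1) ^ (2 * j + 2) := by
      rw [Nat.add_sub_cancel]; ring
    rw [this, ih]
    ring

theorem alpha_minus (q : ℕ) (hq : 1 ≤ q) (α₀ : F → ℕ) (h : α₀ 0 = 1) (j : ℕ) :
    alpha q (q ^ 2) α₀ j 0 - 1 = (q ^ (j + 1) + 1) * (q ^ j - 1) := by
  have h1 := alpha_minus_aux q hq α₀ h j
  have h2 : 1 ≤ q ^ j := Nat.one_le_pow _ _ hq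
  obtain ⟨y, hy⟩ : ∃ y, q ^ j = y + 1 := ⟨q ^ j - 1, by omega⟩
  have h3 : q ^ (2 * j + 1) = q ^ (j + 1) * q ^ j := by ring
  rw [h3, hy] at h1
  rw [hy, Nat.add_sub_cancel]
  have h4 : alpha q (q ^ 2) α₀ j 0 = (q ^ (j + 1) + 1) * y + 1 := by
    have : q ^ (j + 1) * (y + 1) + (y + 1) = ((q ^ (j + 1) + 1) * y + 1) + q ^ (j + 1) := by ring
    rw [this] at h1
    exact Nat.add_right_cancel h1
  rw [h4, Nat.add_sub_cancel]

theorem prod_plus (q : ℕ) (hq : 1 ≤ q) (k : ℕ) :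
    ∏ j ∈ Finset.range (k + 1), ((q ^ (j + 1) - 1) * (q ^ j + 1) * (q ^ (2 * j) * 1)) =
      2 * q ^ ((k + 1) * k) * (q ^ (k + 1) - 1) * ∏ i ∈ Finset.range k, (q ^ (2 * (i + 1)) - 1) := by
  induction k with
  | zero => simp; ring
  | succ k ih =>
    rw [Finset.prod_range_succ, ih, Finset.prod_range_succ _ k]
    have h1 := sub_one_mul_add_one (q ^ (k + 1)) (Nat.one_le_pow _ _ hq)
    rw [← pow_mul, mul_comm (k + 1) 2] at h1
    rw [← h1]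
    have h2 : q ^ ((k + 1 + 1) * (k + 1)) = q ^ ((k + 1) * k) * q ^ (2 * (k + 1)) := by ring
    rw [h2]
    ring

theorem prod_odd (q : ℕ) (m : ℕ) :
    ∏ j ∈ Finset.range m, ((q ^ (2 * (j + 1)) - 1) * (q ^ (2 * j) * q)) =
      q ^ (m ^ 2) * ∏ i ∈ Finset.range m, (q ^ (2 * (i + 1)) - 1) := by
  induction m with
  | zero => simp
  | succ k ih =>
    rw [Finset.prod_range_succ, ih, Finset.prod_range_succ _ k]
    have h2 : q ^ ((k + 1) ^ 2) = q ^ (k ^ 2) * (q ^ (2 * k) * q) := by ring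
    rw [h2]
    ring

theorem prod_minus (q : ℕ) (hq : 1 ≤ q) (k : ℕ) :
    (q + 1) * ∏ j ∈ Finset.range k, ((q ^ (j + 1 + 1) + 1) * (q ^ (j + 1) - 1) * (q ^ (2 * j) * q ^ 2)) =
      q ^ ((k + 1) * k) * (q ^ (k + 1) + 1) * ∏ i ∈ Finset.range k, (q ^ (2 * (i + 1)) - 1) := by
  induction k with
  | zero => simp
  | succ k ih =>
    rw [Finset.prod_range_succ, ← mul_assoc, ih, Finset.prod_range_succ _ k]
    have h1 := sub_one_mul_add_one (q ^ (k + 1)) (Nat.one_le_pow _ _ hq)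
    rw [← pow_mul, mul_comm (k + 1) 2] at h1
    rw [← h1]
    have h2 : q ^ ((k + 1 + 1) * (k + 1)) = q ^ ((k + 1) * k) * (q ^ (2 * k) * q ^ 2) := by ring
    rw [h2]
    ring

end closed

end Cfsg.Agent.Lib.Helper50.Quad
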