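import Cfsg.Agent.Lib.Helper50.NormFq2

set_option autoImplicit false

namespace Cfsg.Agent.Lib.Helper50.Quad

open QuadraticMap

section lemmaH
variable {F : Type*} [Field F] [Fintype F]

theorem card_ne_zero : Nat.card {a : F // a ≠ 0} = Fintype.card F - 1 := by
  classical
  rw [Nat.card_eq_fintype_card, Fintype.card_subtype_compl, Fintype.card_subtype_eq]

theorem card_mul_eq_ne (t : F) (ht : t ≠ 0) : Nat.card {p : F × F // p.1 * p.2 = t} = Fintype.card F - 1 := by
  rw [← card_ne_zero]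
  apply Nat.card_congr
  exact
    { toFun := fun p => ⟨p.1.1, fun h => ht (by rw [← p.2, h, zero_mul])⟩
      invFun := fun a => ⟨(a.1, t / a.1), mul_div_cancel₀ t a.2⟩
      left_inv := fun p => by
        obtain ⟨⟨a, b⟩, hp⟩ := p
        simp only at hp
        have ha : a ≠ 0 := fun h => ht (by rw [← hp, h, zero_mul])
        ext
        · rfl
        · simp only; rw [← hp]; field_simp
      right_inv := fun a => rfl }

theorem card_mul_eq_zero : Nat.card {p : F × F // p.1 * p.2 = 0} = Fintype.card F + (Fintype.card F - 1) := by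
  rw [card_split (fun p : F × F => p.1 * p.2 = 0) (fun p => p.1 = 0)]
  congr 1
  · rw [← Nat.card_eq_fintype_card]
    apply Nat.card_congr
    exact
      { toFun := fun p => p.1.2
        invFun := fun b => ⟨(0, b), by simp⟩
        left_inv := fun p => by
          obtain ⟨⟨a, b⟩, hp, ha⟩ := p
          simp only at ha
          subst ha
          rfl
        right_inv := fun b => rfl }
  · rw [← card_ne_zero]
    apply Nat.card_congr
    exact
      { toFun := fun p => ⟨p.1.1, p.2.2⟩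
        invFun := fun a => ⟨(a.1, 0), by simp, a.2⟩
        left_inv := fun p => by
          obtain ⟨⟨a, b⟩, hp, ha⟩ := p
          simp only at ha hp
          have hb : b = 0 := (mul_eq_zero.1 hp).resolve_left ha
          subst hb
          rfl
        right_inv := fun a => rfl }

/-- adding a hyperbolic plane -/
theorem lemmaH {S : Type*} [Finite S] (ν : S → F) (c : F) :
    Nat.card {p : (F × F) × S // p.1.1 * p.1.2 + ν p.2 = c} =
      Fintype.card F * Nat.card {s // ν s = c} + (Fintype.card F - 1) * Nat.card S := by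
  have e0 : Nat.card {p : (F × F) × S // p.1.1 * p.1.2 + ν p.2 = c} =
      Nat.card {x : S × (F × F) // x.2.1 * x.2.2 + ν x.1 = c} :=
    Nat.card_congr ((Equiv.prodComm _ _).subtypeEquiv (fun p => Iff.rfl))
  rw [e0, card_split (fun x : S × (F × F) => x.2.1 * x.2.2 + ν x.1 = c) (fun x => ν x.1 = c)]
  have h1 : Nat.card {x : S × (F × F) // x.2.1 * x.2.2 + ν x.1 = c ∧ ν x.1 = c} =
      Nat.card {s // ν s = c} * (Fintype.card F + (Fintype.card F - 1)) := by
    rw [← card_pairs (fun s : S => ν s = c) (fun _ (p : F × F) => p.1 * p.2 = 0) _ (fun _ _ => card_mul_eq_zero)]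
    apply Nat.card_congr
    apply Equiv.subtypeEquivRight
    rintro ⟨s, a, b⟩
    constructor
    · rintro ⟨h3, h4⟩
      simp only at h3 h4
      exact ⟨h4, by simp only; rw [h4] at h3; linear_combination h3⟩
    · rintro ⟨h3, h4⟩
      simp only at h3 h4
      exact ⟨by simp only; rw [h3, h4, zero_add], h3⟩
  have h2 : Nat.card {x : S × (F × F) // x.2.1 * x.2.2 + ν x.1 = c ∧ ¬ ν x.1 = c} =
      Nat.card {s // ¬ ν s = c} * (Fintype.card F - 1) := by
    rw [← card_pairs (fun s : S => ¬ ν s = c) (fun s (p : F × F) => p.1 * p.2 + ν s = c) (Fintype.card F - 1)]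
    · apply Nat.card_congr
      apply Equiv.subtypeEquivRight
      rintro ⟨s, a, b⟩
      exact and_comm
    · intro s hs
      rw [← card_mul_eq_ne (c - ν s) (sub_ne_zero.2 (Ne.symm hs))]
      apply Nat.card_congr
      apply Equiv.subtypeEquivRight
      intro p
      constructor
      · intro h; rw [← h]; ring
      · intro h; rw [h]; ring
  have h3 : Nat.card S = Nat.card {s // ν s = c} + Nat.card {s // ¬ ν s = c} := by
    have e1 : Nat.card S = Nat.card {s : S // True} := Nat.card_congr (Equiv.subtypeUnivEquiv (fun _ => trivial)).symm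
    rw [e1, card_split (fun _ : S => True) (fun s => ν s = c)]
    congr 1 <;> exact Nat.card_congr (Equiv.subtypeEquivRight (fun s => by simp))
  rw [h1, h2, h3]
  ring

end lemmaH

section abstract
variable {F V : Type*} [Field F] [AddCommGroup V] [Module F V] (Q : QuadraticForm F V)

/-- the polar form of `Q` is non-degenerate on the subspace `W`. -/
def Nondeg (W : Submodule F V) : Prop := ∀ w ∈ W, w ≠ 0 → ∃ w' ∈ W, polar Q w w' ≠ 0

/-- the part of `W` orthogonal to `e` and `f`. -/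
def perp2 (W : Submodule F V) (e f : V) : Submodule F V :=
  W ⊓ LinearMap.ker (Q.polarBilin e) ⊓ LinearMap.ker (Q.polarBilin f)

theorem mem_perp2 (W : Submodule F V) (e f w : V) :
    w ∈ perp2 Q W e f ↔ w ∈ W ∧ polar Q e w = 0 ∧ polar Q f w = 0 := by
  simp [perp2, and_assoc]

/-- hyperbolic pair in `W` -/
def IsHyp (W : Submodule F V) (p : V × V) : Prop :=
  p.1 ∈ W ∧ p.2 ∈ W ∧ Q p.1 = 0 ∧ Q p.2 = 0 ∧ polar Q p.1 p.2 = 1

/-- number of vectors of `W` with `Q = c` -/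
noncomputable def aC (W : Submodule F V) (c : F) : ℕ := Nat.card {w : V // w ∈ W ∧ Q w = c}

/-- `d` mutually orthogonal hyperbolic pairs inside `W`, and a tail orthogonal to them subject to `Tl`. -/
def IsFull {τ : Type*} (Tl : (τ → V) → Prop) (d : ℕ) (W : Submodule F V)
    (x : ((Fin d → V) × (Fin d → V)) × (τ → V)) : Prop :=
  ((∀ i, x.1.1 i ∈ W) ∧ (∀ i, x.1.2 i ∈ W) ∧ (∀ k, x.2 k ∈ W)) ∧
  ((∀ i, Q (x.1.1 i) = 0) ∧ (∀ i, Q (x.1.2 i) = 0)) ∧
  ((∀ i j, polar Q (x.1.1 i) (x.1.1 j) = 0) ∧ (∀ i j, polar Q (x.1.2 i) (x.1.2 j) = 0) ∧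
    (∀ i j, polar Q (x.1.1 i) (x.1.2 j) = if i = j then 1 else 0)) ∧
  ((∀ i k, polar Q (x.1.1 i) (x.2 k) = 0) ∧ (∀ i k, polar Q (x.1.2 i) (x.2 k) = 0)) ∧ Tl x.2

variable {Q}

theorem polar_self_of_zero {e : V} (he : Q e = 0) : polar Q e e = 0 := by
  rw [polar_self, he, smul_zero]

theorem isFull_cons {τ : Type*} (Tl : (τ → V) → Prop) (d : ℕ) (W : Submodule F V) (e f : V)
    (x : ((Fin d → V) × (Fin d → V)) × (τ → V)) :
    IsFull Q Tl (d + 1) W ((Fin.cons e x.1.1, Fin.cons f x.1.2), x.2) ↔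
      IsHyp Q W (e, f) ∧ IsFull Q Tl d (perp2 Q W e f) x := by
  have hsw : ∀ u v, polar Q u v = 0 → polar Q v u = 0 := by
    intro u v h; rw [polar_comm, h]
  simp only [IsFull, IsHyp, Fin.forall_fin_succ, Fin.cons_zero, Fin.cons_succ, mem_perp2, Fin.succ_inj]
  constructor
  · rintro ⟨⟨⟨he, h1⟩, ⟨hf, h2⟩, h2'⟩, ⟨⟨hqe, hq1⟩, ⟨hqf, hq2⟩⟩, ⟨⟨⟨-, h3⟩, h4⟩, ⟨⟨-, h5⟩, h6⟩, ⟨h7, h8⟩, h9⟩,
      ⟨⟨h10, h11⟩, ⟨h12, h13⟩⟩, hT⟩
    refine ⟨⟨he, hf, hqe, hqf, by simpa using h7⟩, ⟨fun i => ⟨h1 i, h3 i, ?_⟩, fun i => ⟨h2 i, ?_, h5 i⟩,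
      fun k => ⟨h2' k, h10 k, h12 k⟩⟩, ⟨hq1, hq2⟩, ⟨fun i j => (h4 i).2 j, fun i j => (h6 i).2 j,
      fun i j => (h9 i).2 j⟩, ⟨h11, h13⟩, hT⟩
    · apply hsw; simpa using (h9 i).1
    · simpa [Fin.succ_ne_zero, eq_comm] using h8 i
  · rintro ⟨⟨he, hf, hqe, hqf, hef⟩, ⟨h1, h2, h2'⟩, ⟨hq1, hq2⟩, ⟨h3, h4, h5⟩, ⟨h11, h13⟩, hT⟩
    refine ⟨⟨⟨he, fun i => (h1 i).1⟩, ⟨hf, fun i => (h2 i).1⟩, fun k => (h2' k).1⟩, ⟨⟨hqe, hq1⟩, ⟨hqf, hq2⟩⟩,
      ⟨⟨⟨polar_self_of_zero hqe, fun i => (h1 i).2.1⟩, fun i => ⟨hsw _ _ (h1 i).2.1, h3 i⟩⟩,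
       ⟨⟨polar_self_of_zero hqf, fun i => (h2 i).2.2⟩, fun i => ⟨hsw _ _ (h2 i).2.2, h4 i⟩⟩,
      ⟨by simpa using hef, fun i => ?_⟩, fun i => ⟨?_, h5 i⟩⟩,
      ⟨⟨fun k => (h2' k).2.1, h11⟩, ⟨fun k => (h2' k).2.2, h13⟩⟩, hT⟩
    · simpa [Fin.succ_ne_zero, eq_comm] using (h2 i).2.1
    · simpa [Fin.succ_ne_zero] using hsw _ _ (h1 i).2.2

/-- value of `Q` on a decomposed vector -/
theorem map_decomp {W : Submodule F V} {e f : V} (h : IsHyp Q W (e, f)) (a b : F) (w : V)
    (hw : w ∈ perp2 Q W e f) : Q (a • e + b • f + w) = a * b + Q w := by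
  obtain ⟨-, -, hqe, hqf, hef⟩ := h
  simp only at hqe hqf hef
  rw [mem_perp2] at hw
  rw [QuadraticMap.map_add Q, QuadraticMap.map_add Q, QuadraticMap.map_smul, QuadraticMap.map_smul, hqe, hqf,
    polar_add_left, polar_smul_left, polar_smul_left, polar_smul_left, polar_smul_right, hef, hw.2.1, hw.2.2]
  simp only [smul_eq_mul]
  ring

/-- splitting off a hyperbolic pair -/
def splitEquiv (W : Submodule F V) (e f : V) (h : IsHyp Q W (e, f)) :
    W ≃ (F × F) × perp2 Q W e f where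
  toFun w := ((polar Q w.1 f, polar Q e w.1), ⟨w.1 - polar Q w.1 f • e - polar Q e w.1 • f, by
    obtain ⟨he, hf, hqe, hqf, hef⟩ := h
    simp only at he hf hqe hqf hef
    rw [mem_perp2]
    refine ⟨W.sub_mem (W.sub_mem w.2 (W.smul_mem _ he)) (W.smul_mem _ hf), ?_, ?_⟩
    · simp [polar_self_of_zero hqe, hef]
    · have : polar Q f e = 1 := by rw [polar_comm, hef]
      simp [polar_self_of_zero hqf, this, polar_comm Q f w.1]⟩)
  invFun y := ⟨y.1.1 • e + y.1.2 • f + y.2.1,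
    W.add_mem (W.add_mem (W.smul_mem _ h.1) (W.smul_mem _ h.2.1)) ((mem_perp2 Q W e f _).1 y.2.2).1⟩
  left_inv w := by
    ext; simp
  right_inv y := by
    obtain ⟨he, hf, hqe, hqf, hef⟩ := h
    simp only at he hf hqe hqf hef
    obtain ⟨⟨a, b⟩, ⟨w, hw⟩⟩ := y
    rw [mem_perp2] at hw
    have h1 : polar Q f e = 1 := by rw [polar_comm, hef]
    have h2 : polar Q w f = 0 := by rw [polar_comm, hw.2.2]
    ext
    · simp [polar_self_of_zero hqf, hef, h2]
    · simp [polar_self_of_zero hqe, hef, hw.2.1]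
    · simp only [polar_add_left, polar_add_right, polar_smul_left, polar_smul_right, polar_self_of_zero hqf,
        polar_self_of_zero hqe, hef, h2, hw.2.1, smul_eq_mul, mul_zero, mul_one, add_zero, zero_add]
      abel

theorem nondeg_perp2 (W : Submodule F V) (e f : V) (h : IsHyp Q W (e, f))
    (hW : Nondeg Q W) : Nondeg Q (perp2 Q W e f) := by
  intro w hw hw0
  have hw' := (mem_perp2 Q W e f w).1 hw
  obtain ⟨u, hu, hwu⟩ := hW w hw'.1 hw0
  let y := splitEquiv W e f h ⟨u, hu⟩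
  refine ⟨y.2.1, y.2.2, ?_⟩
  have h1 : polar Q w e = 0 := by rw [polar_comm, hw'.2.1]
  have h2 : polar Q w f = 0 := by rw [polar_comm, hw'.2.2]
  have : y.2.1 = u - polar Q u f • e - polar Q e u • f := rfl
  rw [this]
  simpa [h1, h2] using hwu

variable [Fintype F] [Finite V]

omit [Finite V] in
theorem card_perp2 (W : Submodule F V) (e f : V) (h : IsHyp Q W (e, f)) :
    Nat.card W = Fintype.card F * Fintype.card F * Nat.card (perp2 Q W e f) := by
  rw [Nat.card_congr (splitEquiv W e f h), Nat.card_prod, Nat.card_prod, Nat.card_eq_fintype_card]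

theorem aC_rec (W : Submodule F V) (e f : V) (h : IsHyp Q W (e, f)) (c : F) :
    aC Q W c = Fintype.card F * aC Q (perp2 Q W e f) c +
      (Fintype.card F - 1) * Nat.card (perp2 Q W e f) := by
  have h1 := lemmaH (fun s : perp2 Q W e f => Q s.1) c
  have e1 : {s : perp2 Q W e f // Q s.1 = c} ≃ {w : V // w ∈ perp2 Q W e f ∧ Q w = c} :=
    { toFun := fun s => ⟨s.1.1, s.1.2, s.2⟩
      invFun := fun w => ⟨⟨w.1, w.2.1⟩, w.2.2⟩
      left_inv := fun s => rfl
      right_inv := fun w => rfl }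
  rw [Nat.card_congr e1] at h1
  rw [aC, aC, ← h1]
  have e2 : {w : V // w ∈ W ∧ Q w = c} ≃ {w : W // Q w.1 = c} :=
    { toFun := fun w => ⟨⟨w.1, w.2.1⟩, w.2.2⟩
      invFun := fun s => ⟨s.1.1, s.1.2, s.2⟩
      left_inv := fun s => rfl
      right_inv := fun w => rfl }
  rw [Nat.card_congr e2]
  apply Nat.card_congr
  apply (splitEquiv W e f h).subtypeEquiv
  intro w
  have h3 : w = (splitEquiv W e f h).symm (splitEquiv W e f h w) := by simp
  have h4 : w.1 = (splitEquiv W e f h w).1.1 • e + (splitEquiv W e f h w).1.2 • f + (splitEquiv W e f h w).2.1 :=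
    congrArg Subtype.val h3
  conv_lhs => rw [h4]
  rw [map_decomp h _ _ _ (splitEquiv W e f h w).2.2]

/-- for singular `e ≠ 0`, the number of `f` completing it to a hyperbolic pair -/
theorem card_hyp_snd (W : Submodule F V) (hW : Nondeg Q W) (e : V) (he : e ∈ W) (he0 : e ≠ 0) (hqe : Q e = 0) :
    Fintype.card F * Fintype.card F * Nat.card {f : V // f ∈ W ∧ Q f = 0 ∧ polar Q e f = 1} = Nat.card W := by
  obtain ⟨w', hw', h⟩ := hW e he he0
  have h1 := card_fiber_mul W (Q.polarBilin e) w' hw' h 1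
  rw [← h1, mul_assoc, ← Nat.card_eq_fintype_card (α := F)]
  congr 1
  rw [← Nat.card_prod]
  apply Nat.card_congr
  refine
    { toFun := fun x => ⟨x.2.1 + x.1 • e, W.add_mem x.2.2.1 (W.smul_mem _ he), ?_⟩
      invFun := fun f => (Q f.1, ⟨f.1 - Q f.1 • e, W.sub_mem f.2.1 (W.smul_mem _ he), ?_, ?_⟩)
      left_inv := ?_
      right_inv := ?_ }
  · have := x.2.2.2.2
    simp [polar_self_of_zero hqe, this]
  · have h2 : polar Q e f.1 = 1 := f.2.2
    rw [sub_eq_add_neg, ← neg_smul, QuadraticMap.map_add Q, QuadraticMap.map_smul, hqe, polar_smul_right,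
      polar_comm, h2]
    simp
  · have h2 : polar Q e f.1 = 1 := f.2.2
    simp [polar_self_of_zero hqe, h2]
  · rintro ⟨t, ⟨f, hf, hqf, hef⟩⟩
    have h3 : Q (f + t • e) = t := by
      rw [QuadraticMap.map_add Q, QuadraticMap.map_smul, hqe, hqf, polar_smul_right, polar_comm, hef]
      simp
    ext
    · exact h3
    · simp only [h3]; abel
  · rintro ⟨f, hf⟩
    ext
    simp

theorem card_hyp (W : Submodule F V) (hW : Nondeg Q W) :
    Fintype.card F * Fintype.card F * Nat.card {p : V × V // IsHyp Q W p} = (aC Q W 0 - 1) * Nat.card W := by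
  classical
  have hq : 0 < Fintype.card F := Fintype.card_pos
  by_cases hex : ∃ e, e ∈ W ∧ e ≠ 0 ∧ Q e = 0
  · obtain ⟨e₀, he₀, he₀0, hqe₀⟩ := hex
    have h1 : Nat.card {p : V × V // IsHyp Q W p}
        = Nat.card {p : V × V // (p.1 ∈ W ∧ p.1 ≠ 0 ∧ Q p.1 = 0) ∧ (p.2 ∈ W ∧ Q p.2 = 0 ∧ polar Q p.1 p.2 = 1)} := by
      apply Nat.card_congr
      apply Equiv.subtypeEquivRight
      rintro ⟨e, f⟩
      constructor
      · rintro ⟨he, hf, hqe, hqf, hef⟩
        refine ⟨⟨he, ?_, hqe⟩, hf, hqf, hef⟩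
        intro h0
        simp only at h0 hef
        rw [h0] at hef
        simp at hef
      · rintro ⟨⟨he, -, hqe⟩, hf, hqf, hef⟩
        exact ⟨he, hf, hqe, hqf, hef⟩
    rw [h1, card_pairs (fun e : V => e ∈ W ∧ e ≠ 0 ∧ Q e = 0) (fun e f => f ∈ W ∧ Q f = 0 ∧ polar Q e f = 1)
      (Nat.card {f : V // f ∈ W ∧ Q f = 0 ∧ polar Q e₀ f = 1})]
    · have h2 : Nat.card {e : V // e ∈ W ∧ e ≠ 0 ∧ Q e = 0} = aC Q W 0 - 1 := by
        rw [aC, card_split (fun w : V => w ∈ W ∧ Q w = 0) (fun w => w = 0)]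
        have h3 : Nat.card {w : V // (w ∈ W ∧ Q w = 0) ∧ w = 0} = 1 := by
          rw [Nat.card_eq_one_iff_unique]
          exact ⟨⟨fun a b => Subtype.ext (a.2.2.trans b.2.2.symm)⟩, ⟨⟨0, ⟨W.zero_mem, map_zero Q⟩, rfl⟩⟩⟩
        rw [h3, Nat.add_sub_cancel_left]
        apply Nat.card_congr
        apply Equiv.subtypeEquivRight
        intro w
        tauto
      rw [h2, ← card_hyp_snd W hW e₀ he₀ he₀0 hqe₀]
      ring
    · rintro e ⟨he, he0, hqe⟩
      have h3 := card_hyp_snd W hW e he he0 hqe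
      rw [← card_hyp_snd W hW e₀ he₀ he₀0 hqe₀] at h3
      exact Nat.eq_of_mul_eq_mul_left (Nat.mul_pos hq hq) h3
  · push Not at hex
    have h1 : IsEmpty {p : V × V // IsHyp Q W p} := by
      constructor
      rintro ⟨⟨e, f⟩, he, hf, hqe, hqf, hef⟩
      simp only at he hqe hef
      by_cases h0 : e = 0
      · rw [h0] at hef; simp at hef
      · exact hex e he h0 hqe
    have h2 : aC Q W 0 = 1 := by
      rw [aC, Nat.card_eq_one_iff_unique]
      refine ⟨⟨fun a b => Subtype.ext ?_⟩, ⟨⟨0, W.zero_mem, map_zero Q⟩⟩⟩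
      have ha : a.1 = 0 := by
        by_contra h0; exact hex a.1 a.2.1 h0 a.2.2
      have hb : b.1 = 0 := by
        by_contra h0; exact hex b.1 b.2.1 h0 b.2.2
      rw [ha, hb]
    rw [h2, Nat.card_of_isEmpty]
    simp

/-- the level-set sizes after adding `d` hyperbolic planes -/
def alpha (q s₀ : ℕ) (α₀ : F → ℕ) : ℕ → F → ℕ
  | 0, c => α₀ c
  | d + 1, c => q * alpha q s₀ α₀ d c + (q - 1) * (q ^ (2 * d) * s₀)

theorem card_full {τ : Type*} [Finite τ] (Tl : (τ → V) → Prop) (s₀ n₀ : ℕ) (α₀ : F → ℕ)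
    (hbase : ∀ W : Submodule F V, Nondeg Q W → Nat.card W = s₀ → (∀ c, aC Q W c = α₀ c) →
      Nat.card {t : τ → V // (∀ k, t k ∈ W) ∧ Tl t} = n₀) (d : ℕ) :
    ∀ W : Submodule F V, Nondeg Q W → Nat.card W = Fintype.card F ^ (2 * d) * s₀ →
      (∀ c, aC Q W c = alpha (Fintype.card F) s₀ α₀ d c) →
      Nat.card {x : ((Fin d → V) × (Fin d → V)) × (τ → V) // IsFull Q Tl d W x} =
        n₀ * ∏ j ∈ Finset.range d, ((alpha (Fintype.card F) s₀ α₀ (j + 1) 0 - 1) *
          (Fintype.card F ^ (2 * j) * s₀)) := by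
  have hq : 0 < Fintype.card F := Fintype.card_pos
  induction d with
  | zero =>
    intro W hW hc ha
    rw [Finset.range_zero, Finset.prod_empty, mul_one, ← hbase W hW (by simpa using hc) ha]
    apply Nat.card_congr
    refine
      { toFun := fun x => ⟨x.1.2, x.2.1.2.2, x.2.2.2.2.2⟩
        invFun := fun t => ⟨((Fin.elim0, Fin.elim0), t.1), ⟨fun i => i.elim0, fun i => i.elim0, t.2.1⟩,
          ⟨fun i => i.elim0, fun i => i.elim0⟩, ⟨fun i => i.elim0, fun i => i.elim0, fun i => i.elim0⟩,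
          ⟨fun i => i.elim0, fun i => i.elim0⟩, t.2.2⟩
        left_inv := ?_
        right_inv := fun t => rfl }
    rintro ⟨⟨⟨x1, x2⟩, t⟩, hx⟩
    apply Subtype.ext
    exact Prod.ext (Prod.ext (Subsingleton.elim _ _) (Subsingleton.elim _ _)) rfl
  | succ d ih =>
    intro W hW hcard ha
    let E : (V × V) × (((Fin d → V) × (Fin d → V)) × (τ → V)) ≃
        ((Fin (d + 1) → V) × (Fin (d + 1) → V)) × (τ → V) :=
      (Equiv.prodAssoc _ _ _).symm.trans (Equiv.prodCongr
        ((Equiv.prodProdProdComm V V (Fin d → V) (Fin d → V)).trans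
        (Equiv.prodCongr (Fin.consEquiv (fun _ => V)) (Fin.consEquiv (fun _ => V)))) (Equiv.refl _))
    have hE : ∀ y, E y = ((Fin.cons y.1.1 y.2.1.1, Fin.cons y.1.2 y.2.1.2), y.2.2) := fun y => rfl
    have e1 : {y : (V × V) × (((Fin d → V) × (Fin d → V)) × (τ → V)) //
        IsHyp Q W y.1 ∧ IsFull Q Tl d (perp2 Q W y.1.1 y.1.2) y.2} ≃
        {x : ((Fin (d + 1) → V) × (Fin (d + 1) → V)) × (τ → V) // IsFull Q Tl (d + 1) W x} :=
      E.subtypeEquiv (fun y => by rw [hE, isFull_cons])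
    rw [← Nat.card_congr e1]
    rw [card_pairs (fun p : V × V => IsHyp Q W p)
      (fun p x => IsFull Q Tl d (perp2 Q W p.1 p.2) x)
      (n₀ * ∏ j ∈ Finset.range d, ((alpha (Fintype.card F) s₀ α₀ (j + 1) 0 - 1) *
          (Fintype.card F ^ (2 * j) * s₀)))]
    · rw [Finset.prod_range_succ, mul_comm, mul_assoc]
      congr 2
      have h1 := card_hyp W hW
      rw [hcard, ha 0] at h1
      apply Nat.eq_of_mul_eq_mul_left (Nat.mul_pos hq hq)
      rw [h1]
      ring
    · rintro ⟨e, f⟩ hef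
      have h2 := card_perp2 W e f hef
      rw [hcard] at h2
      have h3 : Fintype.card F ^ (2 * (d + 1)) * s₀ =
          Fintype.card F * Fintype.card F * (Fintype.card F ^ (2 * d) * s₀) := by ring
      rw [h3] at h2
      have h4 := (Nat.eq_of_mul_eq_mul_left (Nat.mul_pos hq hq) h2).symm
      apply ih _ (nondeg_perp2 W e f hef hW) h4
      intro c
      have h5 := aC_rec W e f hef c
      rw [ha c, h4, alpha] at h5
      exact (Nat.eq_of_mul_eq_mul_left hq (Nat.add_right_cancel h5)).symm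

end abstract

end Cfsg.Agent.Lib.Helper50.Quad
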