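import Cfsg.Agent.S2679
import Cfsg.Agent.Lib.Helper50.FiniteFieldExt
import Cfsg.Agent.Lib.Helper50.QuadClosed

set_option autoImplicit false
open QuadraticMap

namespace Cfsg.Agent.Lib.Helper50.Quad

section K
variable {F K : Type*} [Field F] [Fintype F] [Field K] [Fintype K] [Algebra F K]

theorem card_K (h2 : Module.finrank F K = 2) : Fintype.card K = Fintype.card F ^ 2 := by
  rw [Module.card_eq_pow_finrank (K := F) (V := K), h2]

omit [Fintype K] in
theorem algebraMap_pow_q (c : F) : (algebraMap F K c) ^ Fintype.card F = algebraMap F K c := by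
  rw [← map_pow, FiniteField.pow_card]

theorem mem_range_of_pow_q (h2 : Module.finrank F K = 2) (x : K) (hx : x ^ Fintype.card F = x) :
    ∃ c : F, algebraMap F K c = x := by
  by_cases hx0 : x = 0
  · exact ⟨0, by rw [hx0, map_zero]⟩
  let f : {a : F // a ≠ 0} → {c : K // c ≠ 0 ∧ c ^ Fintype.card F = c} :=
    fun a => ⟨algebraMap F K a.1, fun h => a.2 ((map_eq_zero _).1 h), algebraMap_pow_q a.1⟩
  have hinj : Function.Injective f := by
    intro a b hab
    exact Subtype.ext ((algebraMap F K).injective (congrArg Subtype.val hab))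
  have hbij : Function.Bijective f := by
    apply hinj.bijective_of_nat_card_le
    rw [card_fixed_ne_zero (card_K h2), card_ne_zero]
  obtain ⟨a, ha⟩ := hbij.2 ⟨x, hx0, hx⟩
  exact ⟨a.1, congrArg Subtype.val ha⟩

/-- a root of an anisotropic binary form, with its conjugate -/
theorem exists_root_conj (h2 : Module.finrank F K = 2) (a b : F)
    (hab : ∀ z₁ z₂ : F, z₁ ^ 2 + a * z₁ * z₂ + b * z₂ ^ 2 = 0 → z₁ = 0 ∧ z₂ = 0) :
    ∃ θ : K, θ ^ Fintype.card F ≠ θ ∧ θ + θ ^ Fintype.card F = - algebraMap F K a ∧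
      θ * θ ^ Fintype.card F = algebraMap F K b := by
  obtain ⟨α, β, hne, hs, hp⟩ := Cfsg.Agent.S2679.exists_roots h2 a b hab
  have hK := card_K h2
  have hroot : α ^ 2 + algebraMap F K a * α + algebraMap F K b = 0 := by
    rw [← hp]
    linear_combination α * hs
  have hnot : α ^ Fintype.card F ≠ α := by
    intro h
    obtain ⟨c, hc⟩ := mem_range_of_pow_q h2 α h
    have : c ^ 2 + a * c * 1 + b * 1 ^ 2 = 0 := by
      apply (algebraMap F K).injective
      rw [map_zero, ← hroot, ← hc]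
      simp only [map_add, map_mul, map_pow, map_one]
      ring
    exact one_ne_zero (hab c 1 this).2
  have hroot' : (α ^ Fintype.card F) ^ 2 + algebraMap F K a * α ^ Fintype.card F + algebraMap F K b = 0 := by
    have h := congrArg (fun x => x ^ Fintype.card F) hroot
    simp only [add_pow_q hK, mul_pow, algebraMap_pow_q] at h
    rw [zero_pow Fintype.card_ne_zero] at h
    rw [← h]
    ring
  have hβ : α ^ Fintype.card F = β := by
    have h : (α ^ Fintype.card F - α) * (α ^ Fintype.card F - β) = 0 := by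
      rw [← hroot', ← hp]
      linear_combination (- α ^ Fintype.card F) * hs
    rcases mul_eq_zero.1 h with h | h
    · exact absurd (sub_eq_zero.1 h) hnot
    · exact sub_eq_zero.1 h
  exact ⟨α, hnot, by rw [hβ, hs], by rw [hβ, hp]⟩

/-- coordinates with respect to `1, -θ` -/
noncomputable def coordEquiv (h2 : Module.finrank F K = 2) (θ : K) (hθ : θ ^ Fintype.card F ≠ θ) : F × F ≃ K :=
  Equiv.ofBijective (fun p => algebraMap F K p.1 - algebraMap F K p.2 * θ) (by
    have hinj : Function.Injective (fun p : F × F => algebraMap F K p.1 - algebraMap F K p.2 * θ) := by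
      rintro ⟨x, y⟩ ⟨x', y'⟩ h
      simp only at h
      have hy : y = y' := by
        by_contra hne
        apply hθ
        have hne' : algebraMap F K (y - y') ≠ 0 := fun h0 => hne (sub_eq_zero.1 ((map_eq_zero _).1 h0))
        have : θ = algebraMap F K ((x - x') / (y - y')) := by
          rw [map_div₀, eq_div_iff hne', map_sub, map_sub]
          linear_combination -h
        rw [this, algebraMap_pow_q]
      subst hy
      have hx : x = x' := by
        apply (algebraMap F K).injective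
        linear_combination h
      rw [hx]
    apply hinj.bijective_of_nat_card_le
    rw [Nat.card_prod, Nat.card_eq_fintype_card, Nat.card_eq_fintype_card, card_K h2, _root_.sq])

theorem coordEquiv_apply (h2 : Module.finrank F K = 2) (θ : K) (hθ : θ ^ Fintype.card F ≠ θ) (p : F × F) :
    coordEquiv h2 θ hθ p = algebraMap F K p.1 - algebraMap F K p.2 * θ := rfl

theorem coordEquiv_pow (h2 : Module.finrank F K = 2) (θ : K) (hθ : θ ^ Fintype.card F ≠ θ) (p : F × F) :
    (coordEquiv h2 θ hθ p) ^ Fintype.card F = algebraMap F K p.1 - algebraMap F K p.2 * θ ^ Fintype.card F := by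
  rw [coordEquiv_apply, sub_pow_q (card_K h2), mul_pow, algebraMap_pow_q, algebraMap_pow_q]

theorem coordEquiv_norm (h2 : Module.finrank F K = 2) (θ : K) (hθ : θ ^ Fintype.card F ≠ θ) (a b : F)
    (hs : θ + θ ^ Fintype.card F = - algebraMap F K a) (hp : θ * θ ^ Fintype.card F = algebraMap F K b) (p : F × F) :
    coordEquiv h2 θ hθ p * (coordEquiv h2 θ hθ p) ^ Fintype.card F =
      algebraMap F K (p.1 ^ 2 + a * p.1 * p.2 + b * p.2 ^ 2) := by
  rw [coordEquiv_pow, coordEquiv_apply]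
  simp only [map_add, map_mul, map_pow]
  rw [← hp]
  linear_combination (- algebraMap F K p.1 * algebraMap F K p.2) * hs

theorem coordEquiv_trace (h2 : Module.finrank F K = 2) (θ : K) (hθ : θ ^ Fintype.card F ≠ θ) (a : F)
    (hs : θ + θ ^ Fintype.card F = - algebraMap F K a) (p : F × F) :
    coordEquiv h2 θ hθ p + (coordEquiv h2 θ hθ p) ^ Fintype.card F =
      algebraMap F K (2 * p.1 + a * p.2) := by
  rw [coordEquiv_pow, coordEquiv_apply]
  simp only [map_add, map_mul, map_ofNat]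
  linear_combination (- algebraMap F K p.2) * hs

end K

section binary
variable {F : Type*} [Field F] [Fintype F]

theorem exists_quadratic_ext (F : Type*) [Field F] [Fintype F] :
    ∃ (K : Type) (_ : Field K) (_ : Fintype K) (_ : Algebra F K), Module.finrank F K = 2 := by
  obtain ⟨p, hpF⟩ := CharP.exists F
  obtain ⟨n, hp, hnF⟩ := FiniteField.card F p
  have : Fact p.Prime := ⟨hp⟩
  let _ : Fintype (GaloisField p (n * 2)) := Fintype.ofFinite _
  have hc : Fintype.card (GaloisField p (n * 2)) = Fintype.card F ^ 2 := by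
    rw [← Nat.card_eq_fintype_card, GaloisField.card p (n * 2) (by simp), hnF, pow_mul]
  obtain ⟨alg, h⟩ := exists_algebra_of_card_pow 2 hc
  exact ⟨GaloisField p (n * 2), inferInstance, inferInstance, alg, h⟩

theorem card_form_eq_one (a b : F)
    (hab : ∀ z₁ z₂ : F, z₁ ^ 2 + a * z₁ * z₂ + b * z₂ ^ 2 = 0 → z₁ = 0 ∧ z₂ = 0) :
    Nat.card {p : F × F // p.1 ^ 2 + a * p.1 * p.2 + b * p.2 ^ 2 = 1} = Fintype.card F + 1 := by
  obtain ⟨K, _, _, _, h2⟩ := exists_quadratic_ext F
  obtain ⟨θ, hθ, hs, hp⟩ := exists_root_conj (K := K) h2 a b hab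
  rw [← card_norm_one (card_K h2)]
  apply Nat.card_congr
  apply (coordEquiv h2 θ hθ).subtypeEquiv
  intro p
  rw [pow_succ' (coordEquiv h2 θ hθ p), coordEquiv_norm h2 θ hθ a b hs hp]
  constructor
  · intro h; rw [h, map_one]
  · intro h
    apply (algebraMap F K).injective
    rw [h, map_one]

theorem lemmaBF (a b a' b' : F)
    (hab : ∀ z₁ z₂ : F, z₁ ^ 2 + a * z₁ * z₂ + b * z₂ ^ 2 = 0 → z₁ = 0 ∧ z₂ = 0)
    (hab' : ∀ z₁ z₂ : F, z₁ ^ 2 + a' * z₁ * z₂ + b' * z₂ ^ 2 = 0 → z₁ = 0 ∧ z₂ = 0) :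
    Nat.card {p : F × F // p.1 ^ 2 + a' * p.1 * p.2 + b' * p.2 ^ 2 = b ∧ 2 * p.1 + a' * p.2 = a} = 2 := by
  obtain ⟨K, _, _, _, h2⟩ := exists_quadratic_ext F
  obtain ⟨θ, hθ, hs, hp⟩ := exists_root_conj (K := K) h2 a b hab
  obtain ⟨η, hη, hs', hp'⟩ := exists_root_conj (K := K) h2 a' b' hab'
  have hK := card_K h2
  have hneg : ∀ x : K, (-x) ^ Fintype.card F = - x ^ Fintype.card F := by
    intro x
    have := sub_pow_q hK 0 x
    rw [zero_pow Fintype.card_ne_zero] at this
    simpa using this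
  have e : {p : F × F // p.1 ^ 2 + a' * p.1 * p.2 + b' * p.2 ^ 2 = b ∧ 2 * p.1 + a' * p.2 = a} ≃
      {κ : K // κ = -θ ∨ κ = - θ ^ Fintype.card F} := by
    apply (coordEquiv h2 η hη).subtypeEquiv
    intro p
    have hn := coordEquiv_norm h2 η hη a' b' hs' hp' p
    have ht := coordEquiv_trace h2 η hη a' hs' p
    set κ := coordEquiv h2 η hη p with hκ
    constructor
    · rintro ⟨h3, h4⟩
      rw [h3, ← hp] at hn
      rw [h4] at ht
      have h5 : (κ + θ) * (κ + θ ^ Fintype.card F) = 0 := by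
        linear_combination κ * hs + κ * ht - hn
      rcases mul_eq_zero.1 h5 with h | h
      · left; linear_combination h
      · right; linear_combination h
    · intro h
      have h6 : κ * κ ^ Fintype.card F = algebraMap F K b ∧ κ + κ ^ Fintype.card F = algebraMap F K a := by
        rcases h with h | h
        · rw [h, hneg]
          exact ⟨by rw [← hp]; ring, by linear_combination -hs⟩
        · rw [h, hneg, pow_q_sq hK]
          exact ⟨by rw [← hp]; ring, by linear_combination -hs⟩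
      rw [hn, ht] at h6
      exact ⟨(algebraMap F K).injective h6.1, (algebraMap F K).injective h6.2⟩
  rw [Nat.card_congr e, Nat.card_eq_two_iff]
  refine ⟨⟨-θ, Or.inl rfl⟩, ⟨- θ ^ Fintype.card F, Or.inr rfl⟩, ?_, ?_⟩
  · intro h
    apply hθ
    have := congrArg Subtype.val h
    simp only at this
    exact (neg_injective this).symm
  · ext x
    simp only [Set.mem_insert_iff, Set.mem_singleton_iff, Set.mem_univ, iff_true]
    rcases x.2 with h | h
    · left; exact Subtype.ext h
    · right; exact Subtype.ext h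

/-- discriminant of an anisotropic form is non-zero -/
theorem disc_ne_zero (a b : F)
    (hab : ∀ z₁ z₂ : F, z₁ ^ 2 + a * z₁ * z₂ + b * z₂ ^ 2 = 0 → z₁ = 0 ∧ z₂ = 0) : a ^ 2 - 4 * b ≠ 0 := by
  obtain ⟨K, _, _, _, h2⟩ := exists_quadratic_ext F
  obtain ⟨θ, hθ, hs, hp⟩ := exists_root_conj (K := K) h2 a b hab
  intro h
  apply hθ
  have h3 : (θ ^ Fintype.card F - θ) ^ 2 = 0 := by
    have h4 : algebraMap F K (a ^ 2 - 4 * b) = 0 := by rw [h, map_zero]
    simp only [map_sub, map_mul, map_pow, map_ofNat] at h4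
    rw [← hp] at h4
    linear_combination h4 + (θ + θ ^ Fintype.card F - algebraMap F K a) * hs
  exact sub_eq_zero.1 (pow_eq_zero_iff (two_ne_zero)|>.1 h3)

end binary

section plane
variable {F V : Type*} [Field F] [Fintype F] [AddCommGroup V] [Module F V] [Finite V] {Q : QuadraticForm F V}

omit [Fintype F] [Finite V] in
theorem eq_zero_of_aC (W : Submodule F V) (h0 : aC Q W 0 = 1) (w : V) (hw : w ∈ W) (hq : Q w = 0) : w = 0 := by
  rw [aC, Nat.card_eq_one_iff_unique] at h0
  have := h0.1.elim (⟨w, hw, hq⟩ : {w : V // w ∈ W ∧ Q w = 0}) ⟨0, W.zero_mem, map_zero Q⟩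
  exact congrArg Subtype.val this

/-- in an anisotropic plane, a vector with `Q = 1` has exactly two partners with prescribed anisotropic data -/
theorem card_partner (W : Submodule F V) (hc : Nat.card W = Fintype.card F ^ 2) (h0 : aC Q W 0 = 1) (a b : F)
    (hab : ∀ z₁ z₂ : F, z₁ ^ 2 + a * z₁ * z₂ + b * z₂ ^ 2 = 0 → z₁ = 0 ∧ z₂ = 0)
    (t₀ : V) (ht₀ : t₀ ∈ W) (hq₀ : Q t₀ = 1) :
    Nat.card {t₁ : V // t₁ ∈ W ∧ Q t₁ = b ∧ polar Q t₀ t₁ = a} = 2 := by
  have hq2 : 1 < Fintype.card F := Fintype.one_lt_card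
  have ht₀0 : t₀ ≠ 0 := by
    intro h; rw [h, map_zero] at hq₀; exact zero_ne_one hq₀
  obtain ⟨u, hu, hnot⟩ : ∃ u ∈ W, ∀ c : F, u ≠ c • t₀ := by
    by_contra hcon
    push Not at hcon
    have hsurj : Function.Surjective (fun c : F => (⟨c • t₀, W.smul_mem c ht₀⟩ : W)) := by
      intro w
      obtain ⟨c, hc'⟩ := hcon w.1 w.2
      exact ⟨c, Subtype.ext hc'.symm⟩
    have := Nat.card_le_card_of_surjective _ hsurj
    rw [hc, Nat.card_eq_fintype_card] at this
    nlinarith
  let φ : F × F → W := fun p => ⟨p.1 • t₀ + p.2 • u, W.add_mem (W.smul_mem _ ht₀) (W.smul_mem _ hu)⟩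
  have hinj : Function.Injective φ := by
    rintro ⟨x, y⟩ ⟨x', y'⟩ h
    have h' : x • t₀ + y • u = x' • t₀ + y' • u := congrArg Subtype.val h
    have hy : y = y' := by
      by_contra hne
      have hne' : y - y' ≠ 0 := sub_ne_zero.2 hne
      apply hnot ((x' - x) / (y - y'))
      have h3 : (y - y') • u = (x' - x) • t₀ := by
        rw [sub_smul, sub_smul, sub_eq_sub_iff_add_eq_add]
        rw [add_comm, h', add_comm]
      rw [div_eq_inv_mul, mul_smul, ← h3, smul_smul, inv_mul_cancel₀ hne', one_smul]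
    subst hy
    have hx : (x - x') • t₀ = 0 := by
      rw [sub_smul, sub_eq_zero]
      exact add_right_cancel h'
    rcases smul_eq_zero.1 hx with h4 | h4
    · rw [sub_eq_zero.1 h4]
    · exact absurd h4 ht₀0
  have hbij : Function.Bijective φ := by
    apply hinj.bijective_of_nat_card_le
    rw [hc, Nat.card_prod, Nat.card_eq_fintype_card, _root_.sq]
  have hQ : ∀ p : F × F, Q (φ p).1 = p.1 ^ 2 + polar Q t₀ u * p.1 * p.2 + Q u * p.2 ^ 2 := by
    intro p
    simp only [φ]
    rw [QuadraticMap.map_add Q, QuadraticMap.map_smul, QuadraticMap.map_smul, hq₀, polar_smul_left, polar_smul_right]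
    simp only [smul_eq_mul]
    ring
  have hP : ∀ p : F × F, polar Q t₀ (φ p).1 = 2 * p.1 + polar Q t₀ u * p.2 := by
    intro p
    simp only [φ]
    rw [polar_add_right, polar_smul_right, polar_smul_right, polar_self, hq₀]
    simp only [smul_eq_mul, nsmul_eq_mul]
    push_cast
    ring
  have hab' : ∀ z₁ z₂ : F, z₁ ^ 2 + polar Q t₀ u * z₁ * z₂ + Q u * z₂ ^ 2 = 0 → z₁ = 0 ∧ z₂ = 0 := by
    intro z₁ z₂ h
    have h3 : (φ (z₁, z₂)).1 = 0 := eq_zero_of_aC W h0 _ (φ (z₁, z₂)).2 (by rw [hQ]; exact h)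
    have h4 : φ (z₁, z₂) = φ (0, 0) := by
      apply Subtype.ext
      rw [h3]
      simp [φ]
    have h5 := hinj h4
    exact ⟨congrArg Prod.fst h5, congrArg Prod.snd h5⟩
  rw [← lemmaBF a b (polar Q t₀ u) (Q u) hab hab']
  apply Nat.card_congr
  symm
  have e1 : {p : F × F // p.1 ^ 2 + polar Q t₀ u * p.1 * p.2 + Q u * p.2 ^ 2 = b ∧ 2 * p.1 + polar Q t₀ u * p.2 = a} ≃
      {w : W // Q w.1 = b ∧ polar Q t₀ w.1 = a} :=
    (Equiv.ofBijective φ hbij).subtypeEquiv (fun p => by
      rw [Equiv.ofBijective_apply, hQ, hP])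
  refine e1.trans
    { toFun := fun w => ⟨w.1.1, w.1.2, w.2⟩
      invFun := fun t => ⟨⟨t.1, t.2.1⟩, t.2.2⟩
      left_inv := fun w => rfl
      right_inv := fun t => rfl }

theorem card_tail_minus (W : Submodule F V) (hc : Nat.card W = Fintype.card F ^ 2) (h0 : aC Q W 0 = 1)
    (h1 : aC Q W 1 = Fintype.card F + 1) (a b : F)
    (hab : ∀ z₁ z₂ : F, z₁ ^ 2 + a * z₁ * z₂ + b * z₂ ^ 2 = 0 → z₁ = 0 ∧ z₂ = 0) :
    Nat.card {t : V × V // (t.1 ∈ W ∧ Q t.1 = 1) ∧ (t.2 ∈ W ∧ Q t.2 = b ∧ polar Q t.1 t.2 = a)} =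
      (Fintype.card F + 1) * 2 := by
  rw [card_pairs (fun t₀ : V => t₀ ∈ W ∧ Q t₀ = 1) (fun t₀ t₁ => t₁ ∈ W ∧ Q t₁ = b ∧ polar Q t₀ t₁ = a) 2
    (fun t₀ ht₀ => card_partner W hc h0 a b hab t₀ ht₀.1 ht₀.2)]
  rw [← h1, aC]

end plane

end Cfsg.Agent.Lib.Helper50.Quad
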