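import Cfsg.Prelude.Def_Classical
import Cfsg.Agent.Lib.Helper50.QuadCount

set_option autoImplicit false
open Matrix QuadraticMap

namespace Cfsg.Agent.Lib.Helper50.Quad

section iso
variable {F : Type*} [Field F]

theorem mem_isometryGroup_iff {ι : Type} [Fintype ι] [DecidableEq ι] (Q : (ι → F) → F)
    (g : Matrix.GeneralLinearGroup ι F) :
    g ∈ Cfsg.isometryGroup F Q ↔ ∀ u, Q ((g : Matrix ι ι F) *ᵥ u) = Q u := by
  constructor
  · intro h u; exact h u u
  · intro h u _; exact h u

/-- two quadratic forms with the same values and polar values on two families agree on combinations -/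
theorem map_sum_eq {V₁ V₂ ι : Type*} [AddCommGroup V₁] [Module F V₁] [AddCommGroup V₂] [Module F V₂]
    (Q₁ : QuadraticForm F V₁) (Q₂ : QuadraticForm F V₂) (v : ι → V₁) (w : ι → V₂)
    (h1 : ∀ s, Q₁ (v s) = Q₂ (w s)) (h2 : ∀ s t, polar Q₁ (v s) (v t) = polar Q₂ (w s) (w t))
    (c : ι → F) (S : Finset ι) : Q₁ (∑ s ∈ S, c s • v s) = Q₂ (∑ s ∈ S, c s • w s) := by
  classical
  induction S using Finset.induction_on with
  | empty => simp
  | insert a S ha ih =>
    rw [Finset.sum_insert ha, Finset.sum_insert ha, QuadraticMap.map_add Q₁, QuadraticMap.map_add Q₂, ih,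
      QuadraticMap.map_smul, QuadraticMap.map_smul, h1]
    congr 1
    have e1 : ∀ x : V₁, polar Q₁ x (∑ s ∈ S, c s • v s) = ∑ s ∈ S, c s * polar Q₁ x (v s) := by
      intro x
      have := map_sum (Q₁.polarBilin x) (fun s => c s • v s) S
      simp only [polarBilin_apply_apply, polar_smul_right, smul_eq_mul] at this
      exact this
    have e2 : ∀ x : V₂, polar Q₂ x (∑ s ∈ S, c s • w s) = ∑ s ∈ S, c s * polar Q₂ x (w s) := by
      intro x
      have := map_sum (Q₂.polarBilin x) (fun s => c s • w s) S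
      simp only [polarBilin_apply_apply, polar_smul_right, smul_eq_mul] at this
      exact this
    rw [e1, e2]
    apply Finset.sum_congr rfl
    intro s _
    rw [polar_smul_left, polar_smul_left, h2]

theorem mulVec_eq_sum {ι : Type} [Fintype ι] (A : Matrix ι ι F) (w : ι → F) :
    A *ᵥ w = ∑ i, w i • (fun r => A r i) := by
  ext r
  simp [mulVec, dotProduct, mul_comm]

theorem eq_sum_single {ι : Type} [Fintype ι] [DecidableEq ι] (w : ι → F) :
    w = ∑ i, w i • (Pi.single i (1 : F) : ι → F) := by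
  ext r
  simp [Pi.single_apply]

/-- the isometry group is in bijection with the frames having the Gram data of the standard basis -/
theorem card_iso_eq {ι : Type} [Fintype ι] [DecidableEq ι] (Q : QuadraticForm F (ι → F)) (hnd : Nondeg Q ⊤) :
    Nat.card (Cfsg.isometryGroup F (fun v => Q v)) =
      Nat.card {x : ι → (ι → F) // (∀ s, Q (x s) = Q (Pi.single s 1)) ∧
        ∀ s t, polar Q (x s) (x t) = polar Q (Pi.single s 1) (Pi.single t 1)} := by
  apply Nat.card_congr
  refine Equiv.ofBijective (fun g => ⟨fun j r => (g.1 : Matrix ι ι F) r j, fun s => ?_, fun s t => ?_⟩) ⟨?_, ?_⟩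
  · have h3 := (mem_isometryGroup_iff _ g.1).1 g.2 (Pi.single s 1)
    rw [mulVec_single_one] at h3
    exact h3
  · have h := (mem_isometryGroup_iff _ g.1).1 g.2
    have h3 := h (Pi.single s 1)
    have h4 := h (Pi.single t 1)
    have h5 := h (Pi.single s 1 + Pi.single t 1)
    rw [mulVec_add] at h5
    rw [mulVec_single_one] at h3 h4 h5
    rw [mulVec_single_one] at h5
    simp only [polar]
    rw [← h3, ← h4, ← h5]
    rfl
  · intro g g' hgg
    apply Subtype.ext
    apply Units.ext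
    ext r j
    exact congrFun (congrFun (congrArg Subtype.val hgg) j) r
  · rintro ⟨x, hx1, hx2⟩
    let A : Matrix ι ι F := Matrix.of (fun r j => x j r)
    have hpres : ∀ u, Q (A *ᵥ u) = Q u := by
      intro u
      rw [mulVec_eq_sum]
      conv_rhs => rw [eq_sum_single u]
      exact map_sum_eq Q Q x (fun s => Pi.single s 1) hx1 hx2 u Finset.univ
    have hu : IsUnit A := by
      rw [← Matrix.mulVec_injective_iff_isUnit]
      intro u u' huu
      by_contra hne
      obtain ⟨w', -, hw'⟩ := hnd (u - u') Submodule.mem_top (sub_ne_zero.2 hne)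
      apply hw'
      have h0 : A *ᵥ (u - u') = 0 := by rw [mulVec_sub, huu, sub_self]
      simp only [polar]
      rw [← hpres (u - u' + w'), ← hpres (u - u'), ← hpres w', mulVec_add, h0]
      simp
    refine ⟨⟨hu.unit, ?_⟩, ?_⟩
    · rw [mem_isometryGroup_iff]
      exact hpres
    · rfl

theorem card_iso_reindex {ι ι' : Type} [Fintype ι] [DecidableEq ι] [Fintype ι'] [DecidableEq ι'] (e : ι ≃ ι')
    (Qf : (ι → F) → F) (Qf' : (ι' → F) → F) (h : ∀ v, Qf' v = Qf (v ∘ e)) :
    Nat.card (Cfsg.isometryGroup F Qf) = Nat.card (Cfsg.isometryGroup F Qf') := by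
  apply Nat.card_congr
  let E : Matrix.GeneralLinearGroup ι F ≃* Matrix.GeneralLinearGroup ι' F :=
    Units.mapEquiv (Matrix.reindexAlgEquiv F F e).toMulEquiv
  have hE : ∀ g : Matrix.GeneralLinearGroup ι F, ((E g : Matrix.GeneralLinearGroup ι' F) : Matrix ι' ι' F) =
      (g : Matrix ι ι F).submatrix e.symm e.symm := fun g => rfl
  apply E.toEquiv.subtypeEquiv
  intro g
  change g ∈ Cfsg.isometryGroup F Qf ↔ E g ∈ Cfsg.isometryGroup F Qf'
  rw [mem_isometryGroup_iff, mem_isometryGroup_iff, hE]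
  have key : ∀ u : ι' → F, ((g : Matrix ι ι F).submatrix e.symm e.symm *ᵥ u) ∘ e = (g : Matrix ι ι F) *ᵥ (u ∘ e) := by
    intro u
    rw [Matrix.submatrix_mulVec_equiv]
    ext r
    simp
  constructor
  · intro hg u
    rw [h, h, key, hg]
  · intro hg u
    have := hg (u ∘ e.symm)
    rw [h, h, key] at this
    simpa [Function.comp_assoc] using this

end iso

section gen
variable {F : Type*} [Field F] {τ : Type}

/-- `m` hyperbolic planes plus the form `T` -/
noncomputable def Qgen (m : ℕ) (T : QuadraticForm F (τ → F)) : QuadraticForm F ((Fin m ⊕ Fin m) ⊕ τ → F) :=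
  (∑ i : Fin m, QuadraticMap.linMulLin (LinearMap.proj (Sum.inl (Sum.inl i))) (LinearMap.proj (Sum.inl (Sum.inr i))))
    + T.comp (LinearMap.funLeft F F Sum.inr)

theorem Qgen_apply (m : ℕ) (T : QuadraticForm F (τ → F)) (v : (Fin m ⊕ Fin m) ⊕ τ → F) :
    Qgen m T v = ∑ i : Fin m, v (.inl (.inl i)) * v (.inl (.inr i)) + T (fun k => v (.inr k)) := by
  simp only [Qgen, _root_.add_apply, _root_.sum_apply, QuadraticMap.linMulLin_apply, LinearMap.proj_apply,
    QuadraticMap.comp_apply]
  rfl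

theorem Qgen_polar (m : ℕ) (T : QuadraticForm F (τ → F)) (u v : (Fin m ⊕ Fin m) ⊕ τ → F) :
    polar (Qgen m T) u v = ∑ i : Fin m, (u (.inl (.inl i)) * v (.inl (.inr i)) + v (.inl (.inl i)) * u (.inl (.inr i)))
      + polar T (fun k => u (.inr k)) (fun k => v (.inr k)) := by
  simp only [polar, Qgen_apply, Pi.add_apply]
  have : (fun k => u (Sum.inr k) + v (Sum.inr k)) = (fun k => u (Sum.inr k)) + (fun k => v (Sum.inr k)) := rfl
  rw [this]
  have h2 : ∑ i : Fin m, (u (.inl (.inl i)) * v (.inl (.inr i)) + v (.inl (.inl i)) * u (.inl (.inr i))) =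
      ∑ i : Fin m, (u (.inl (.inl i)) + v (.inl (.inl i))) * (u (.inl (.inr i)) + v (.inl (.inr i)))
      - ∑ i : Fin m, u (.inl (.inl i)) * u (.inl (.inr i)) - ∑ i : Fin m, v (.inl (.inl i)) * v (.inl (.inr i)) := by
    rw [← Finset.sum_sub_distrib, ← Finset.sum_sub_distrib]
    exact Finset.sum_congr rfl (fun i _ => by ring)
  rw [h2]
  ring

variable [DecidableEq τ]

/-- the conditions on the tail vectors -/
def Tl {V : Type*} [AddCommGroup V] [Module F V] (Q : QuadraticForm F V) (T : QuadraticForm F (τ → F))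
    (t : τ → V) : Prop :=
  (∀ k, Q (t k) = T (Pi.single k 1)) ∧ ∀ k l, polar Q (t k) (t l) = polar T (Pi.single k 1) (Pi.single l 1)

theorem inr_single_inl (m : ℕ) (s : Fin m ⊕ Fin m) :
    (fun k : τ => (Pi.single (Sum.inl s) (1 : F) : (Fin m ⊕ Fin m) ⊕ τ → F) (.inr k)) = 0 := by
  ext k; simp

theorem inr_single_inr (m : ℕ) (l : τ) :
    (fun k : τ => (Pi.single (Sum.inr l) (1 : F) : (Fin m ⊕ Fin m) ⊕ τ → F) (.inr k)) = Pi.single l 1 := by
  ext k; simp [Pi.single_apply]

theorem Qgen_single_inl (m : ℕ) (T : QuadraticForm F (τ → F)) (s : Fin m ⊕ Fin m) :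
    Qgen m T (Pi.single (.inl s) 1) = 0 := by
  rw [Qgen_apply, inr_single_inl, map_zero, add_zero]
  apply Finset.sum_eq_zero
  intro i _
  rcases s with j | j <;> simp

theorem Qgen_single_inr (m : ℕ) (T : QuadraticForm F (τ → F)) (k : τ) :
    Qgen m T (Pi.single (.inr k) 1) = T (Pi.single k 1) := by
  rw [Qgen_apply, inr_single_inr]
  simp

theorem Qgen_polar_inl_inl (m : ℕ) (T : QuadraticForm F (τ → F)) (w : (Fin m ⊕ Fin m) ⊕ τ → F) (i : Fin m) :
    polar (Qgen m T) w (Pi.single (.inl (.inl i)) 1) = w (.inl (.inr i)) := by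
  rw [Qgen_polar, inr_single_inl, polar_zero_right]
  simp [Pi.single_apply]

theorem Qgen_polar_inl_inr (m : ℕ) (T : QuadraticForm F (τ → F)) (w : (Fin m ⊕ Fin m) ⊕ τ → F) (i : Fin m) :
    polar (Qgen m T) w (Pi.single (.inl (.inr i)) 1) = w (.inl (.inl i)) := by
  rw [Qgen_polar, inr_single_inl, polar_zero_right]
  simp [Pi.single_apply]

theorem Qgen_polar_inr (m : ℕ) (T : QuadraticForm F (τ → F)) (w : (Fin m ⊕ Fin m) ⊕ τ → F) (k : τ) :
    polar (Qgen m T) w (Pi.single (.inr k) 1) = polar T (fun l => w (.inr l)) (Pi.single k 1) := by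
  rw [Qgen_polar, inr_single_inr]
  simp

theorem Qgen_nondeg (m : ℕ) (T : QuadraticForm F (τ → F)) (hT : Nondeg T ⊤) : Nondeg (Qgen m T) ⊤ := by
  intro w _ hw
  by_cases h : (fun k => w (.inr k)) = 0
  · obtain ⟨s, hs⟩ : ∃ s, w s ≠ 0 := by
      by_contra hcon
      push Not at hcon
      exact hw (funext hcon)
    rcases s with (i | i) | k
    · exact ⟨_, Submodule.mem_top, by rw [Qgen_polar_inl_inr]; exact hs⟩
    · exact ⟨_, Submodule.mem_top, by rw [Qgen_polar_inl_inl]; exact hs⟩
    · exact absurd (congrFun h k) hs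
  · obtain ⟨t', -, ht'⟩ := hT _ Submodule.mem_top h
    refine ⟨Sum.elim 0 t', Submodule.mem_top, ?_⟩
    rw [Qgen_polar]
    simpa using ht'

/-- frames with the Gram data of the standard basis are the full frames -/
theorem frames_iff (m : ℕ) (T : QuadraticForm F (τ → F))
    (x : (Fin m ⊕ Fin m) ⊕ τ → ((Fin m ⊕ Fin m) ⊕ τ → F)) :
    ((∀ s, Qgen m T (x s) = Qgen m T (Pi.single s 1)) ∧
        ∀ s t, polar (Qgen m T) (x s) (x t) = polar (Qgen m T) (Pi.single s 1) (Pi.single t 1)) ↔
      IsFull (Qgen m T) (Tl (Qgen m T) T) m ⊤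
        ((fun i => x (.inl (.inl i)), fun i => x (.inl (.inr i))), fun k => x (.inr k)) := by
  constructor
  · rintro ⟨h1, h2⟩
    refine ⟨⟨fun _ => Submodule.mem_top, fun _ => Submodule.mem_top, fun _ => Submodule.mem_top⟩,
      ⟨fun i => ?_, fun i => ?_⟩, ⟨fun i j => ?_, fun i j => ?_, fun i j => ?_⟩, ⟨fun i k => ?_, fun i k => ?_⟩,
      fun k => ?_, fun k l => ?_⟩
    · simp only; rw [h1, Qgen_single_inl]
    · simp only; rw [h1, Qgen_single_inl]
    · simp only; rw [h2, Qgen_polar_inl_inl]; simp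
    · simp only; rw [h2, Qgen_polar_inl_inr]; simp
    · simp only; rw [h2, Qgen_polar_inl_inr]; simp [Pi.single_apply, eq_comm]
    · simp only; rw [h2, Qgen_polar_inr, inr_single_inl, polar_zero_left]
    · simp only; rw [h2, Qgen_polar_inr, inr_single_inl, polar_zero_left]
    · simp only; rw [h1, Qgen_single_inr]
    · simp only; rw [h2, Qgen_polar_inr, inr_single_inr]
  · rintro ⟨-, ⟨hq1, hq2⟩, ⟨h3, h4, h5⟩, ⟨h6, h7⟩, h8, h9⟩
    simp only at hq1 hq2 h3 h4 h5 h6 h7 h8 h9
    constructor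
    · rintro ((i | i) | k)
      · rw [hq1, Qgen_single_inl]
      · rw [hq2, Qgen_single_inl]
      · rw [h8, Qgen_single_inr]
    · rintro ((i | i) | k) ((j | j) | l)
      · rw [h3, Qgen_polar_inl_inl]; simp
      · rw [h5, Qgen_polar_inl_inr]; simp [Pi.single_apply, eq_comm]
      · rw [h6, Qgen_polar_inr, inr_single_inl, polar_zero_left]
      · rw [polar_comm, h5, Qgen_polar_inl_inl]; simp [Pi.single_apply]
      · rw [h4, Qgen_polar_inl_inr]; simp
      · rw [h7, Qgen_polar_inr, inr_single_inl, polar_zero_left]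
      · rw [polar_comm, h6, Qgen_polar_inl_inl]; simp
      · rw [polar_comm, h7, Qgen_polar_inl_inr]; simp
      · rw [h9, Qgen_polar_inr, inr_single_inr]

end gen

section level
variable {F : Type*} [Field F] [Fintype F]

theorem card_level {S : Type*} [Finite S] (ν : S → F) (m : ℕ) (c : F) :
    Nat.card {p : (Fin m → F × F) × S // ∑ i, (p.1 i).1 * (p.1 i).2 + ν p.2 = c} =
      alpha (Fintype.card F) (Nat.card S) (fun c => Nat.card {s // ν s = c}) m c := by
  induction m with
  | zero =>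
    rw [alpha]
    apply Nat.card_congr
    refine
      { toFun := fun p => ⟨p.1.2, by simpa using p.2⟩
        invFun := fun s => ⟨(Fin.elim0, s.1), by simpa using s.2⟩
        left_inv := ?_
        right_inv := fun s => rfl }
    rintro ⟨⟨x, s⟩, hp⟩
    apply Subtype.ext
    exact Prod.ext (Subsingleton.elim _ _) rfl
  | succ m ih =>
    rw [alpha, ← ih]
    have h1 := lemmaH (fun p : (Fin m → F × F) × S => ∑ i, (p.1 i).1 * (p.1 i).2 + ν p.2) c
    have h2 : Nat.card ((Fin m → F × F) × S) = Fintype.card F ^ (2 * m) * Nat.card S := by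
      rw [Nat.card_prod, Nat.card_fun, Nat.card_prod, Nat.card_eq_fintype_card, Nat.card_eq_fintype_card,
        Fintype.card_fin, pow_mul, _root_.sq]
    rw [h2] at h1
    rw [← h1]
    apply Nat.card_congr
    let E : (F × F) × ((Fin m → F × F) × S) ≃ (Fin (m + 1) → F × F) × S :=
      (Equiv.prodAssoc _ _ _).symm.trans (Equiv.prodCongr (Fin.consEquiv (fun _ => F × F)) (Equiv.refl _))
    have hE : ∀ y, E y = (Fin.cons y.1 y.2.1, y.2.2) := fun y => rfl
    symm
    apply E.subtypeEquiv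
    intro y
    rw [hE, Fin.sum_univ_succ]
    simp only [Fin.cons_zero, Fin.cons_succ, add_assoc]

variable {τ : Type} [Fintype τ] [DecidableEq τ]

theorem aC_Qgen (m : ℕ) (T : QuadraticForm F (τ → F)) (c : F) :
    aC (Qgen m T) ⊤ c =
      alpha (Fintype.card F) (Fintype.card F ^ Fintype.card τ) (fun c => Nat.card {s : τ → F // T s = c}) m c := by
  have h1 := card_level (fun s : τ → F => T s) m c
  rw [Nat.card_fun, Nat.card_eq_fintype_card (α := F), Nat.card_eq_fintype_card (α := τ)] at h1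
  rw [← h1, aC]
  apply Nat.card_congr
  let E : ((Fin m ⊕ Fin m) ⊕ τ → F) ≃ (Fin m → F × F) × (τ → F) :=
    { toFun := fun w => (fun i => (w (.inl (.inl i)), w (.inl (.inr i))), fun k => w (.inr k))
      invFun := fun p => Sum.elim (Sum.elim (fun i => (p.1 i).1) (fun i => (p.1 i).2)) p.2
      left_inv := fun w => by
        ext ((i | i) | k) <;> rfl
      right_inv := fun p => rfl }
  apply E.subtypeEquiv
  intro w
  rw [Qgen_apply]
  exact ⟨fun h => h.2, fun h => ⟨Submodule.mem_top, h⟩⟩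

omit [DecidableEq τ] in
theorem card_top_Qgen (m : ℕ) :
    Nat.card (⊤ : Submodule F ((Fin m ⊕ Fin m) ⊕ τ → F)) =
      Fintype.card F ^ (2 * m) * Fintype.card F ^ Fintype.card τ := by
  rw [Nat.card_congr (Submodule.topEquiv (R := F) (M := (Fin m ⊕ Fin m) ⊕ τ → F)).toEquiv, Nat.card_fun,
    Nat.card_eq_fintype_card, Nat.card_eq_fintype_card]
  simp [two_mul, pow_add]

/-- the order of the isometry group of `m` hyperbolic planes plus `T` -/
theorem card_iso_gen (m : ℕ) (T : QuadraticForm F (τ → F)) (hT : Nondeg T ⊤) (n₀ : ℕ)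
    (hbase : ∀ W : Submodule F ((Fin m ⊕ Fin m) ⊕ τ → F), Nondeg (Qgen m T) W →
      Nat.card W = Fintype.card F ^ Fintype.card τ →
      (∀ c, aC (Qgen m T) W c = Nat.card {s : τ → F // T s = c}) →
      Nat.card {t : τ → ((Fin m ⊕ Fin m) ⊕ τ → F) // (∀ k, t k ∈ W) ∧ Tl (Qgen m T) T t} = n₀) :
    Nat.card (Cfsg.isometryGroup F (fun v => Qgen m T v)) =
      n₀ * ∏ j ∈ Finset.range m,
        ((alpha (Fintype.card F) (Fintype.card F ^ Fintype.card τ)
          (fun c => Nat.card {s : τ → F // T s = c}) (j + 1) 0 - 1) *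
          (Fintype.card F ^ (2 * j) * Fintype.card F ^ Fintype.card τ)) := by
  rw [card_iso_eq _ (Qgen_nondeg m T hT),
    ← card_full (Tl (Qgen m T) T) _ n₀ _ hbase m ⊤ (Qgen_nondeg m T hT) (card_top_Qgen m) (aC_Qgen m T)]
  apply Nat.card_congr
  let E : ((Fin m ⊕ Fin m) ⊕ τ → ((Fin m ⊕ Fin m) ⊕ τ → F)) ≃
      ((Fin m → ((Fin m ⊕ Fin m) ⊕ τ → F)) × (Fin m → ((Fin m ⊕ Fin m) ⊕ τ → F))) × (τ → ((Fin m ⊕ Fin m) ⊕ τ → F)) :=
    { toFun := fun x => ((fun i => x (.inl (.inl i)), fun i => x (.inl (.inr i))), fun k => x (.inr k))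
      invFun := fun p => Sum.elim (Sum.elim p.1.1 p.1.2) p.2
      left_inv := fun w => by
        ext ((i | i) | k) <;> rfl
      right_inv := fun p => rfl }
  exact E.subtypeEquiv (fun x => frames_iff m T x)

end level

end Cfsg.Agent.Lib.Helper50.Quad
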